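import Cfsg.Agent.Omega.EH3.TwoC.Basic

/-!
# THEOREM 2C (helper465, OMEGA #12780): the end (helper316)

If every pair `(a, c)` (`a, c ∈ O`, `b a c = 1`) has a common nonzero fixed vector `j` of `X a` and `X c`, then
`j` does not depend on the pair, so `H` fixes it.
-/

set_option autoImplicit false

namespace Cfsg.Agent.Omega.EH3.TwoC

open Cfsg.Agent.LargeExtra.SiegFam Cfsg.Agent.LargeExtra.SiegFam.Lin

variable {V : Type*} [AddCommGroup V] [Module (ZMod 2) V]
  {q : V → ZMod 2} {b : LinearMap.BilinForm (ZMod 2) V}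
  {H : Subgroup (V ≃ₗ[ZMod 2] V)} {O : Set V} {W : V → Submodule (ZMod 2) V}
  {X : V → Subgroup (V ≃ₗ[ZMod 2] V)} {a c : V}

namespace LF

theorem C_add {v w : V} (h : IsC X a v) (h' : IsC X a w) : IsC X a (v + w) := by
  intro x hx
  rw [map_add, h x hx, h' x hx]

/-- `C_a ≤ a^⊥` -/
theorem C_perp (F : LF q b H O W X) (hT : TNe b O X) (ha : a ∈ O) {v : V} (hv : IsC X a v) :
    b a v = 0 := by
  rcases zm (b a v) with h | h
  · exact h
  · exfalso
    obtain ⟨x, hx, y, hy, z, hz, h1⟩ := hT a ha v h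
    have h2 : x = 1 := by
      apply F.inj a ha x hx v h
      rw [hv x hx, add_self]
      exact (W a).zero_mem
    rw [h2, F.T_one ha hy hz] at h1
    exact absurd h1 (by decide)

theorem C_N (F : LF q b H O W X) (hT : TNe b O X) (ha : a ∈ O) {v : V} (hv : IsC X a v) : IsN b X a v :=
  ⟨F.C_perp hT ha hv, fun x hx => Or.inl (hv x hx)⟩

/-- `C_a ∩ W_a = ⟨a⟩` -/
theorem C_W (F : LF q b H O W X) (ha : a ∈ O) {v : V} (hv : IsC X a v) (hw : v ∈ W a) :
    v = 0 ∨ v = a := by
  by_contra hcon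
  rw [not_or] at hcon
  obtain ⟨x, hx, h1⟩ := F.exists_move ha hw hcon.1 hcon.2
  rw [hv x hx] at h1
  apply F.zero a ha
  have h2 : v + 0 = v + a := by rw [add_zero, ← h1]
  exact (add_left_cancel h2).symm

/-- `|C_a| ≤ 4` -/
theorem C_four (F : LF q b H O W X) (hT : TNe b O X) (h2 : Two q b O X) (ha : a ∈ O) {v v' : V}
    (hv : IsC X a v) (h0 : v ≠ 0) (h1 : v ≠ a) (hv' : IsC X a v') :
    v' = 0 ∨ v' = a ∨ v' = v ∨ v' = v + a := by
  by_cases k0 : v' = 0
  · exact Or.inl k0
  by_cases k1 : v' = a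
  · exact Or.inr (Or.inl k1)
  right; right
  obtain ⟨r, w, hr, hw, e⟩ := F.exists_R_add_W ha (F.C_N hT ha hv)
  obtain ⟨r', w', hr', hw', e'⟩ := F.exists_R_add_W ha (F.C_N hT ha hv')
  have key : ∀ {v r w : V}, IsC X a v → v ≠ 0 → v ≠ a → w ∈ W a → v = r + w → r ≠ 0 ∧ r ≠ a := by
    intro v r w hv h0 h1 hw e
    constructor
    · rintro rfl
      rw [zero_add] at e
      rcases F.C_W ha hv (by rw [e]; exact hw) with h | h
      · exact h0 h
      · exact h1 h
    · intro hra
      rcases F.C_W ha hv (by rw [e, hra]; exact (W a).add_mem (F.self_W a ha) hw) with h | h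
      · exact h0 h
      · exact h1 h
  obtain ⟨r0, r1⟩ := key hv h0 h1 hw e
  obtain ⟨r0', r1'⟩ := key hv' k0 k1 hw' e'
  have h3 : v' + v ∈ W a := by
    rcases h2 a ha r r' hr hr' r0 r1 r0' r1' with h | h
    · have e2 : v' + v = w' + w := by rw [e, e', h]; vec2
      rw [e2]
      exact (W a).add_mem hw' hw
    · have e2 : v' + v = a + (w' + w) := by rw [e, e', h]; vec2
      rw [e2]
      exact (W a).add_mem (F.self_W a ha) ((W a).add_mem hw' hw)
  rcases F.C_W ha (C_add hv' hv) h3 with h4 | h4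
  · left; exact eq_of_add h4
  · right
    rw [← h4]; vec2

/-- the intersection `C_a ∩ C_c` for a pair -/
theorem C_uniq (F : LF q b H O W X) (hT : TNe b O X) (h2 : Two q b O X) (ha : a ∈ O) (hc : c ∈ O)
    (hac : b a c = 1) {j j' : V} (h0 : j ≠ 0) (h0' : j' ≠ 0) (hj : IsC X a j) (hj' : IsC X a j')
    (kj : IsC X c j) (kj' : IsC X c j') : j' = j := by
  have hca : b c a = 1 := by rw [F.comm]; exact hac
  have p1 := F.C_perp hT hc kj
  have p2 := F.C_perp hT hc kj'
  have ne : j ≠ a := by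
    rintro rfl
    rw [p1] at hca
    exact absurd hca (by decide)
  rcases F.C_four hT h2 ha hj h0 ne hj' with h | h | h | h
  · exact absurd h h0'
  · rw [h, hca] at p2
    exact absurd p2 (by decide)
  · exact h
  · rw [h, map_add, p1, hca] at p2
    exact absurd p2 (by decide)

/-- the key step: `b c c' = 0` -/
theorem pair_perp (F : LF q b H O W X) (hT : TNe b O X) (h2 : Two q b O X)
    (hC : ∀ a ∈ O, ∀ c ∈ O, b a c = 1 → ∃ j, j ≠ 0 ∧ IsC X a j ∧ IsC X c j) (ha : a ∈ O) (hc : c ∈ O)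
    {c' : V} (hc' : c' ∈ O) (hac : b a c = 1) (hac' : b a c' = 1) {j : V} (h0 : j ≠ 0)
    (hja : IsC X a j) (hjc : IsC X c j) (hjc' : IsC X c' (j + a)) : b c c' = 0 := by
  rcases zm (b c c') with h | h
  · exact h
  exfalso
  obtain ⟨k, k0, kc, kc'⟩ := hC c hc c' hc' h
  have hca : b c a = 1 := by rw [F.comm]; exact hac
  have hca' : b c' a = 1 := by rw [F.comm]; exact hac'
  have hcc : b c' c = 1 := by rw [F.comm]; exact h
  have paj := F.C_perp hT ha hja
  have pcj := F.C_perp hT hc hjc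
  have pcj' := F.C_perp hT hc' hjc'
  have saa := F.self a
  have scc := F.self c
  have scc' := F.self c'
  have z1 : (1 : ZMod 2) ≠ 0 := by decide
  have jc : j ≠ c := by
    intro e; rw [e, hac] at paj; exact z1 paj
  have j'0 : j + a ≠ 0 := by
    intro e
    have := congrArg (fun v => b c v) e
    simp only [map_add, pcj, hca, map_zero, zero_add] at this
    exact z1 this
  have j'c : j + a ≠ c' := by
    intro e
    have h3 : b a (j + a) = 0 := by rw [map_add, paj, saa]; rfl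
    rw [e, hac'] at h3
    exact z1 h3
  rcases F.C_four hT h2 hc hjc h0 jc kc with h1 | h1 | h1 | h1
  · exact k0 h1
  · rcases F.C_four hT h2 hc' hjc' j'0 j'c kc' with h3 | h3 | h3 | h3
    · exact k0 h3
    · rw [← h1, h3, scc'] at h; exact z1 h.symm
    · have h4 : b a k = 0 := by rw [h3, map_add, paj, saa]; rfl
      rw [h1, hac] at h4; exact z1 h4
    · have h4 : b c' k = 0 := by rw [h3, map_add, pcj', scc']; rfl
      rw [h1, hcc] at h4; exact z1 h4
  · rcases F.C_four hT h2 hc' hjc' j'0 j'c kc' with h3 | h3 | h3 | h3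
    · exact k0 h3
    · rw [← h1, h3, hac'] at paj; exact z1 paj
    · rw [h1] at h3
      apply F.zero a ha
      have h4 : j + 0 = j + a := by rw [add_zero]; exact h3
      exact (add_left_cancel h4).symm
    · have h4 : b a k = 1 := by rw [h3, map_add, map_add, paj, saa, hac']; rfl
      rw [h1, paj] at h4; exact z1 h4.symm
  · rcases F.C_four hT h2 hc' hjc' j'0 j'c kc' with h3 | h3 | h3 | h3
    · exact k0 h3
    · have h4 : b c k = 0 := by rw [h1, map_add, pcj, scc]; rfl
      rw [h3, h] at h4; exact z1 h4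
    · have h4 : b a k = 1 := by rw [h1, map_add, paj, hac]; rfl
      rw [h3, map_add, paj, saa] at h4
      exact z1 (h4.symm.trans (by decide))
    · have h4 : c + c' = a := by
        have h5 : j + c = j + a + c' := by rw [← h1, h3]
        have h6 : c = a + c' := by
          rw [add_assoc] at h5
          exact add_left_cancel h5
        rw [h6]; vec2
      have h5 := F.q_add c c'
      rw [h4, F.q_a ha, F.q_a hc, F.q_a hc', h] at h5
      exact absurd h5 (by decide)

/-- `j` is the same for all partners of `a` -/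
theorem pair_same (F : LF q b H O W X) (hT : TNe b O X) (h2 : Two q b O X)
    (hC : ∀ a ∈ O, ∀ c ∈ O, b a c = 1 → ∃ j, j ≠ 0 ∧ IsC X a j ∧ IsC X c j) (ha : a ∈ O) (hc : c ∈ O)
    {c' : V} (hc' : c' ∈ O) (hac : b a c = 1) (hac' : b a c' = 1) {j j' : V} (h0 : j ≠ 0) (h0' : j' ≠ 0)
    (hja : IsC X a j) (hjc : IsC X c j) (hja' : IsC X a j') (hjc' : IsC X c' j') : j' = j := by
  have z1 : (1 : ZMod 2) ≠ 0 := by decide
  have hca : b c a = 1 := by rw [F.comm]; exact hac
  have hca' : b c' a = 1 := by rw [F.comm]; exact hac'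
  have pcj := F.C_perp hT hc hjc
  have pcj' := F.C_perp hT hc' hjc'
  have ne : j ≠ a := by
    rintro rfl
    rw [pcj] at hca
    exact z1 hca.symm
  have ne' : j' ≠ a := by
    rintro rfl
    rw [pcj'] at hca'
    exact z1 hca'.symm
  rcases F.C_four hT h2 ha hja h0 ne hja' with h | h | h | h
  · exact absurd h h0'
  · exact absurd h ne'
  · exact h
  exfalso
  rw [h] at hjc'
  -- `c'` is perpendicular to `X a c`
  have key : ∀ x ∈ X a, b (x c) c' = 0 := by
    intro x hx
    have hxH := F.X_H a ha x hx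
    apply F.pair_perp hT h2 hC ha (F.stable x hxH c hc) hc' (by rw [F.a_X ha hx, hac]) hac' h0 hja _ hjc'
    have h3 := F.C_map hc hxH hjc
    rwa [hja x hx] at h3
  obtain ⟨x, hx, y, hy, z, hz, hT1⟩ := hT a ha c hac
  have hw : y (x c + c) + (x c + c) ∈ W a := F.X_perp a ha y hy _ (F.s_perp ha hx c)
  have w0 : y (x c + c) + (x c + c) ≠ 0 := by
    intro e
    rw [T, e, map_zero, LinearMap.zero_apply] at hT1
    exact z1 hT1.symm
  have wa : y (x c + c) + (x c + c) ≠ a := by
    intro e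
    rw [T, e, F.s_perp ha hz] at hT1
    exact z1 hT1.symm
  obtain ⟨f, hf, hfw⟩ := F.exists_move ha hw w0 wa
  have k1 := key (y * x) ((X a).mul_mem hy hx)
  have k2 := key y hy
  have k3 := key x hx
  have k4 := key 1 (X a).one_mem
  have k5 := key (f * (y * x)) ((X a).mul_mem hf ((X a).mul_mem hy hx))
  have k6 := key (f * y) ((X a).mul_mem hf hy)
  have k7 := key (f * x) ((X a).mul_mem hf hx)
  have k8 := key f hf
  simp only [mul_app, one_app] at k1 k2 k3 k4 k5 k6 k7 k8
  have e1 : b (f (y (x c + c) + (x c + c))) c' = 0 := by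
    simp only [map_add, LinearMap.add_apply, k5, k6, k7, k8]
    rfl
  have e2 : b (y (x c + c) + (x c + c)) c' = 0 := by
    simp only [map_add, LinearMap.add_apply, k1, k2, k3, k4]
    rfl
  rw [hfw, map_add, LinearMap.add_apply, e2, hac'] at e1
  exact absurd e1 (by decide)

/-- the common vector of a pair -/
def J (b : LinearMap.BilinForm (ZMod 2) V) (O : Set V) (X : V → Subgroup (V ≃ₗ[ZMod 2] V)) (a j : V) :
    Prop := ∃ c ∈ O, b a c = 1 ∧ j ≠ 0 ∧ IsC X a j ∧ IsC X c j

theorem J_pair (F : LF q b H O W X) (hT : TNe b O X) (h2 : Two q b O X)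
    (hC : ∀ a ∈ O, ∀ c ∈ O, b a c = 1 → ∃ j, j ≠ 0 ∧ IsC X a j ∧ IsC X c j) (ha : a ∈ O) (hc : c ∈ O)
    (hac : b a c = 1) {j : V} (hj : J b O X a j) : J b O X c j ∧ IsC X c j := by
  obtain ⟨c', hc', h1, h3, h4, h5⟩ := hj
  obtain ⟨k, k0, ka, kc⟩ := hC a ha c hc hac
  have e := F.pair_same hT h2 hC ha hc hc' hac h1 k0 h3 ka kc h4 h5
  rw [e]
  exact ⟨⟨a, ha, by rw [F.comm]; exact hac, k0, kc, ka⟩, kc⟩

theorem J_uniq (F : LF q b H O W X) (hT : TNe b O X) (h2 : Two q b O X)
    (hC : ∀ a ∈ O, ∀ c ∈ O, b a c = 1 → ∃ j, j ≠ 0 ∧ IsC X a j ∧ IsC X c j) (ha : a ∈ O)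
    {j j' : V} (hj : J b O X a j) (hj' : J b O X a j') : j' = j := by
  obtain ⟨c, hc, h1, h3, h4, h5⟩ := hj
  obtain ⟨c', hc', h1', h3', h4', h5'⟩ := hj'
  exact F.pair_same hT h2 hC ha hc hc' h1 h1' h3 h3' h4 h5 h4' h5'

/-- a singular point `t ∈ O` perpendicular to all points with `J · j` is fixed by `X a` -/
theorem C_of_perp (F : LF q b H O W X) (hT : TNe b O X) (h2 : Two q b O X)
    (hC : ∀ a ∈ O, ∀ c ∈ O, b a c = 1 → ∃ j, j ≠ 0 ∧ IsC X a j ∧ IsC X c j) (ha : a ∈ O) {j : V}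
    (hj : J b O X a j) {t : V} (ht : ∀ o ∈ O, J b O X o j → b t o = 0) : IsC X a t := by
  intro x hx
  obtain ⟨c, hc, hac⟩ := F.nbr a ha
  have hat : b a t = 0 := by rw [F.comm]; exact ht a ha hj
  have hw := F.X_perp a ha x hx t hat
  have orb : ∀ y ∈ X a, b t (y c) = 0 := by
    intro y hy
    have hyH := F.X_H a ha y hy
    have h3 : b a (y c) = 1 := by rw [F.a_X ha hy, hac]
    exact ht _ (F.stable y hyH c hc) (F.J_pair hT h2 hC ha (F.stable y hyH c hc) h3 hj).1
  have tc : b t c = 0 := orb 1 (X a).one_mem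
  have hxc : b (x t + t) c = 0 := by
    rw [map_add, LinearMap.add_apply, F.b_X ha hx, orb x hx, tc]; rfl
  have h3 : x t + t = 0 ∨ x t + t = a := by
    apply F.eq_of_perp ha
    intro v hv
    obtain ⟨y, hy, hyw⟩ := F.surj a ha c hac v hv
    have h4 := F.b_W ha hw hyw
    have h5 : b (x t + t) (y c) = 0 := by
      have h6 := orb (x * y) ((X a).mul_mem hx hy)
      rw [mul_app] at h6
      rw [map_add, LinearMap.add_apply, F.b_X ha hx, h6, orb y hy]; rfl
    rw [map_add, map_add, h5, hxc] at h4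
    simpa using h4
  rcases h3 with h3 | h3
  · exact eq_of_add h3
  · rw [h3, hac] at hxc
    exact absurd hxc (by decide)

/-- **the end of THEOREM 2C** -/
theorem end_false (F : LF q b H O W X) (hT : TNe b O X) (h2 : Two q b O X)
    (hC : ∀ a ∈ O, ∀ c ∈ O, b a c = 1 → ∃ j, j ≠ 0 ∧ IsC X a j ∧ IsC X c j)
    (hfix : ∀ j, (∀ h ∈ H, h j = j) → j = 0) (ha : a ∈ O) : False := by
  obtain ⟨c, hc, hac⟩ := F.nbr a ha
  obtain ⟨j, j0, ja, jc⟩ := hC a ha c hc hac
  have hJa : J b O X a j := ⟨c, hc, hac, j0, ja, jc⟩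
  have hJc := (F.J_pair hT h2 hC ha hc hac hJa).1
  -- all points
  have hall : ∀ t ∈ O, J b O X t j := by
    -- a point without `J t j` is `j`
    have key : ∀ t ∈ O, ¬ J b O X t j → t = j := by
      intro t ht hn
      have hp : ∀ o ∈ O, J b O X o j → b t o = 0 := by
        intro o ho hJo
        rcases zm (b t o) with h | h
        · exact h
        · exact absurd (F.J_pair hT h2 hC ho ht (by rw [F.comm]; exact h) hJo).1 hn
      exact F.C_uniq hT h2 ha hc hac j0 (F.zero t ht) ja (F.C_of_perp hT h2 hC ha hJa hp) jc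
        (F.C_of_perp hT h2 hC hc hJc hp)
    intro t ht
    by_contra hn
    obtain ⟨t', ht', htt⟩ := F.nbr t ht
    have hn' : ¬ J b O X t' j := fun h =>
      hn (F.J_pair hT h2 hC ht' ht (by rw [F.comm]; exact htt) h).1
    rw [key t ht hn, key t' ht' hn', F.self] at htt
    exact absurd htt (by decide)
  apply j0
  apply hfix
  intro h hh
  have h3 : J b O X (h a) (h j) := by
    refine ⟨h c, F.stable h hh c hc, by rw [F.b_H hh]; exact hac, fun e => j0 ?_, F.C_map ha hh ja,
      F.C_map hc hh jc⟩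
    have := congrArg (fun v => h⁻¹ v) e
    simpa only [app_inv, map_zero] using this
  exact F.J_uniq hT h2 hC (F.stable h hh a ha) (hall _ (F.stable h hh a ha)) h3

end LF

end Cfsg.Agent.Omega.EH3.TwoC
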