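import Cfsg.Agent.LargeExtra.SiegFam.Basic

/-!
# THEOREM 2C (helper465, OMEGA #12780): the linear setting (helper330)

`LF q b H O W X`: `V` a finite nondegenerate quadratic space over `F₂`, `H` a group of isometries, `O` an
`H`-orbit of nonzero singular vectors; for `a ∈ O` a totally singular subspace `W a` containing `a` and a
group `X a` of commuting involutions of `H` fixing `a`, with `[a^⊥, X a] ≤ W a`, `[W a, X a] ≤ ⟨a⟩`, and, for
`b a c = 1`, `x ↦ x c + c` is a bijection of `X a` onto `a^⊥ / W a`.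

`IsR a r`: the Siegel map `sg a r` lies in `X a`; `IsN a v`: `v ∈ a^⊥`, `[v, X a] ≤ ⟨a⟩`.
-/

set_option autoImplicit false

namespace Cfsg.Agent.Omega.EH3.TwoC

open Cfsg.Agent.LargeExtra.SiegFam Cfsg.Agent.LargeExtra.SiegFam.Lin

/-- identities of vectors in characteristic two -/
macro "vec2" : tactic =>
  `(tactic| (refine (one_smul (ZMod 2) _).symm.trans ?_; match_scalars <;> (clear * -; grind)))

variable {V : Type*} [AddCommGroup V] [Module (ZMod 2) V]

/-- The linear setting. -/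
structure LF (q : V → ZMod 2) (b : LinearMap.BilinForm (ZMod 2) V) (H : Subgroup (V ≃ₗ[ZMod 2] V))
    (O : Set V) (W : V → Submodule (ZMod 2) V) (X : V → Subgroup (V ≃ₗ[ZMod 2] V)) : Prop where
  alt : Alt b
  q_add : ∀ v w, q (v + w) = q v + q w + b v w
  q_H : ∀ h ∈ H, ∀ v, q (h v) = q v
  zero : ∀ c ∈ O, c ≠ 0
  stable : ∀ h ∈ H, ∀ c ∈ O, h c ∈ O
  trans : ∀ c ∈ O, ∀ c' ∈ O, ∃ h ∈ H, h c = c'
  nbr : ∀ a ∈ O, ∃ c ∈ O, b a c = 1
  self_W : ∀ a ∈ O, a ∈ W a
  q_W : ∀ a ∈ O, ∀ w ∈ W a, q w = 0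
  W_map : ∀ h ∈ H, ∀ a ∈ O, ∀ w ∈ W a, h w ∈ W (h a)
  X_map : ∀ h ∈ H, ∀ a ∈ O, ∀ x ∈ X a, h * x * h⁻¹ ∈ X (h a)
  X_H : ∀ a ∈ O, ∀ x ∈ X a, x ∈ H
  X_a : ∀ a ∈ O, ∀ x ∈ X a, x a = a
  X_sq : ∀ a ∈ O, ∀ x ∈ X a, ∀ v, x (x v) = v
  X_comm : ∀ a ∈ O, ∀ x ∈ X a, ∀ y ∈ X a, ∀ v, x (y v) = y (x v)
  X_perp : ∀ a ∈ O, ∀ x ∈ X a, ∀ v, b a v = 0 → x v + v ∈ W a
  X_W : ∀ a ∈ O, ∀ x ∈ X a, ∀ w ∈ W a, x w = w ∨ x w = w + a
  inj : ∀ a ∈ O, ∀ x ∈ X a, ∀ c, b a c = 1 → x c + c ∈ W a → x = 1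
  surj : ∀ a ∈ O, ∀ c, b a c = 1 → ∀ s, b a s = 0 → ∃ x ∈ X a, x c + c + s ∈ W a

/-- `sg a r ∈ X a` -/
def IsR (q : V → ZMod 2) (b : LinearMap.BilinForm (ZMod 2) V) (X : V → Subgroup (V ≃ₗ[ZMod 2] V))
    (a r : V) : Prop :=
  b a r = 0 ∧ ∃ x ∈ X a, ∀ v, x v = sg q b a r v

/-- `v ∈ a^⊥`, `[v, X a] ≤ ⟨a⟩` -/
def IsN (b : LinearMap.BilinForm (ZMod 2) V) (X : V → Subgroup (V ≃ₗ[ZMod 2] V)) (a v : V) : Prop :=
  b a v = 0 ∧ ∀ x ∈ X a, x v = v ∨ x v = v + a

/-- `v` is fixed by `X a` -/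
def IsC (X : V → Subgroup (V ≃ₗ[ZMod 2] V)) (a v : V) : Prop := ∀ x ∈ X a, x v = v

/-- the trilinear form -/
def T (b : LinearMap.BilinForm (ZMod 2) V) (c : V) (x y z : V ≃ₗ[ZMod 2] V) : ZMod 2 :=
  b (y (x c + c) + (x c + c)) (z c + c)

/-- `|R_a / ⟨a⟩| ≤ 2` -/
def Two (q : V → ZMod 2) (b : LinearMap.BilinForm (ZMod 2) V) (O : Set V)
    (X : V → Subgroup (V ≃ₗ[ZMod 2] V)) : Prop :=
  ∀ a ∈ O, ∀ r r', IsR q b X a r → IsR q b X a r' → r ≠ 0 → r ≠ a → r' ≠ 0 → r' ≠ a → r' = r ∨ r' = r + a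

/-- `T ≠ 0` at every point -/
def TNe (b : LinearMap.BilinForm (ZMod 2) V) (O : Set V) (X : V → Subgroup (V ≃ₗ[ZMod 2] V)) : Prop :=
  ∀ a ∈ O, ∀ c, b a c = 1 → ∃ x ∈ X a, ∃ y ∈ X a, ∃ z ∈ X a, T b c x y z = 1

variable {q : V → ZMod 2} {b : LinearMap.BilinForm (ZMod 2) V}

theorem inv_app (h : V ≃ₗ[ZMod 2] V) (v : V) : h (h⁻¹ v) = v := h.apply_symm_apply v

theorem app_inv (h : V ≃ₗ[ZMod 2] V) (v : V) : h⁻¹ (h v) = v := h.symm_apply_apply v

theorem mul_app (g h : V ≃ₗ[ZMod 2] V) (v : V) : (g * h) v = g (h v) := rfl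

theorem one_app (v : V) : (1 : V ≃ₗ[ZMod 2] V) v = v := rfl

theorem ext_one {h : V ≃ₗ[ZMod 2] V} (e : ∀ v, h v = v) : h = 1 := by
  apply LinearEquiv.ext
  intro v; exact e v

namespace LF

variable {H : Subgroup (V ≃ₗ[ZMod 2] V)} {O : Set V} {W : V → Submodule (ZMod 2) V}
  {X : V → Subgroup (V ≃ₗ[ZMod 2] V)}

theorem comm (F : LF q b H O W X) (v w : V) : b v w = b w v := F.alt.comm v w

theorem self (F : LF q b H O W X) (v : V) : b v v = 0 := F.alt.self v

theorem q_zero (F : LF q b H O W X) : q 0 = 0 := by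
  have h := F.q_add 0 0
  rw [add_zero, map_zero, add_zero, zadd] at h
  exact h

theorem b_eq (F : LF q b H O W X) (v w : V) : b v w = q (v + w) + q v + q w := by
  rw [F.q_add]; grind

theorem b_H (F : LF q b H O W X) {h : V ≃ₗ[ZMod 2] V} (hh : h ∈ H) (v w : V) :
    b (h v) (h w) = b v w := by
  rw [F.b_eq, F.b_eq, ← map_add, F.q_H h hh, F.q_H h hh, F.q_H h hh]

theorem q_a (F : LF q b H O W X) {a : V} (ha : a ∈ O) : q a = 0 := F.q_W a ha a (F.self_W a ha)

theorem b_W (F : LF q b H O W X) {a : V} (ha : a ∈ O) {v w : V} (hv : v ∈ W a) (hw : w ∈ W a) :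
    b v w = 0 := by
  rw [F.b_eq, F.q_W a ha _ ((W a).add_mem hv hw), F.q_W a ha _ hv, F.q_W a ha _ hw]; rfl

theorem a_W (F : LF q b H O W X) {a : V} (ha : a ∈ O) {w : V} (hw : w ∈ W a) :
    b a w = 0 := F.b_W ha (F.self_W a ha) hw

theorem W_a (F : LF q b H O W X) {a : V} (ha : a ∈ O) {w : V} (hw : w ∈ W a) :
    b w a = 0 := F.b_W ha hw (F.self_W a ha)

/-- `b a (x v) = b a v` -/
theorem a_X (F : LF q b H O W X) {a : V} (ha : a ∈ O) {x : V ≃ₗ[ZMod 2] V} (hx : x ∈ X a) (v : V) :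
    b a (x v) = b a v := by
  nth_rewrite 1 [← F.X_a a ha x hx]
  exact F.b_H (F.X_H a ha x hx) _ _

/-- `b (x v) w = b v (x w)` -/
theorem b_X (F : LF q b H O W X) {a : V} (ha : a ∈ O) {x : V ≃ₗ[ZMod 2] V} (hx : x ∈ X a) (v w : V) :
    b (x v) w = b v (x w) := by
  rw [← F.b_H (F.X_H a ha x hx) v (x w), F.X_sq a ha x hx]

theorem q_X (F : LF q b H O W X) {a : V} (ha : a ∈ O) {x : V ≃ₗ[ZMod 2] V} (hx : x ∈ X a) (v : V) :
    q (x v) = q v := F.q_H x (F.X_H a ha x hx) v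

theorem s_perp (F : LF q b H O W X) {a : V} (ha : a ∈ O) {x : V ≃ₗ[ZMod 2] V} (hx : x ∈ X a) (v : V) :
    b a (x v + v) = 0 := by
  rw [map_add, F.a_X ha hx, zadd]

/-- (B6) -/
theorem b_delta (F : LF q b H O W X) {a : V} (ha : a ∈ O) {x : V ≃ₗ[ZMod 2] V} (hx : x ∈ X a) {t : V}
    (ht : b a t = 0) : b t (x t) = 0 := by
  have h1 := F.q_W a ha _ (F.X_perp a ha x hx t ht)
  rw [F.q_add, F.q_X ha hx, F.comm] at h1
  grind

/-- `x w = w + b w (x c + c) a` for `w ∈ W a` (more generally `x w + w ∈ ⟨a⟩`) -/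
theorem X_val (F : LF q b H O W X) {a : V} (ha : a ∈ O) {x : V ≃ₗ[ZMod 2] V} (hx : x ∈ X a) {c : V}
    (hc : b a c = 1) {v : V} (hv : x v = v ∨ x v = v + a) : x v = v + b v (x c + c) • a := by
  have h1 : b (x v) c = b v (x c) := F.b_X ha hx v c
  rcases hv with h | h
  · have : b v (x c + c) = 0 := by rw [map_add, ← h1, h, zadd]
    rw [this, zero_smul, add_zero, h]
  · have : b v (x c + c) = 1 := by
      rw [map_add, ← h1, h, map_add, LinearMap.add_apply, hc]; grind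
    rw [this, one_smul, h]

/-! ### Siegel maps -/

theorem sg_congr (a r : V) {v w : V} (h : v = w) : sg q b a r v = sg q b a r w := by rw [h]

theorem sg_add (F : LF q b H O W X) {a r r' : V} (hr : b a r = 0) (hr' : b a r' = 0) (v : V) :
    sg q b a r (sg q b a r' v) = sg q b a (r + r') v := by
  have h1 : b r a = 0 := by rw [F.comm]; exact hr
  have h2 : b r' a = 0 := by rw [F.comm]; exact hr'
  have h3 := F.self a
  have h4 := F.self r'
  have h5 := F.comm r r'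
  simp only [sg, map_add, map_smul, LinearMap.add_apply, smul_eq_mul, hr', h1, h3, F.q_add]
  vec2

theorem sg_sq (F : LF q b H O W X) {a r : V} (hr : b a r = 0) (v : V) :
    sg q b a r (sg q b a r v) = v := by
  rw [F.sg_add hr hr, add_self, sg]
  simp [F.q_zero]

theorem sg_a (F : LF q b H O W X) {a : V} (ha : a ∈ O) (v : V) : sg q b a a v = v := by
  simp only [sg, F.q_a ha]
  vec2

theorem sg_conj (F : LF q b H O W X) {h : V ≃ₗ[ZMod 2] V} (hh : h ∈ H) (a r v : V) :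
    h (sg q b a r v) = sg q b (h a) (h r) (h v) := by
  simp only [sg, map_add, map_smul, F.b_H hh, F.q_H h hh]

theorem sg_swap {a r : V} (ha : q a = 0) (hr : q r = 0) (v : V) : sg q b a r v = sg q b r a v := by
  simp only [sg, ha, hr]
  vec2

theorem sg_b (F : LF q b H O W X) {a r : V} (ha : q a = 0) (hr : b a r = 0) (v w : V) :
    b (sg q b a r v) (sg q b a r w) = b v w := by
  have h1 : b r a = 0 := by rw [F.comm]; exact hr
  have h2 := F.comm v a
  have h3 := F.comm v r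
  have h4 : b r r = 0 := F.self r
  have h5 : b a a = 0 := F.self a
  simp only [sg, map_add, map_smul, LinearMap.add_apply, LinearMap.smul_apply, smul_eq_mul, h1, h2, h3,
    h4, h5, hr]
  grind

/-! ### `R`, `N`, `C` -/

theorem IsR.perp' {a r : V} (h : IsR q b X a r) : b a r = 0 := h.1

theorem R_zero (F : LF q b H O W X) (a : V) : IsR q b X a 0 := by
  refine ⟨map_zero _, 1, (X a).one_mem, fun v => ?_⟩
  rw [one_app, sg]; simp [F.q_zero]

theorem R_self (F : LF q b H O W X) {a : V} (ha : a ∈ O) : IsR q b X a a :=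
  ⟨F.self a, 1, (X a).one_mem, fun v => by rw [one_app, F.sg_a ha]⟩

theorem R_add (F : LF q b H O W X) {a r r' : V} (h : IsR q b X a r) (h' : IsR q b X a r') :
    IsR q b X a (r + r') := by
  obtain ⟨h1, x, hx, h2⟩ := h
  obtain ⟨h3, y, hy, h4⟩ := h'
  refine ⟨by rw [map_add, h1, h3, add_zero], x * y, (X a).mul_mem hx hy, fun v => ?_⟩
  rw [mul_app, h2, h4, F.sg_add h1 h3]

theorem N_zero (a : V) : IsN b X a 0 := ⟨map_zero _, fun x _ => Or.inl (map_zero _)⟩

theorem N_add {a v w : V} (h : IsN b X a v) (h' : IsN b X a w) : IsN b X a (v + w) := by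
  refine ⟨by rw [map_add, h.1, h'.1, add_zero], fun x hx => ?_⟩
  rw [map_add]
  rcases h.2 x hx with h1 | h1 <;> rcases h'.2 x hx with h2 | h2 <;> rw [h1, h2]
  · left; rfl
  · right; rw [add_assoc]
  · right; rw [add_right_comm]
  · left
    rw [add_add_add_comm, add_self, add_zero]

theorem N_of_add {a v w : V} (h : IsN b X a (v + w)) (h' : IsN b X a w) : IsN b X a v := by
  have := N_add h h'
  rwa [add_add'] at this

theorem N_W (F : LF q b H O W X) {a : V} (ha : a ∈ O) {w : V} (hw : w ∈ W a) : IsN b X a w :=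
  ⟨F.a_W ha hw, fun x hx => F.X_W a ha x hx w hw⟩

theorem exists_c (F : LF q b H O W X) {a : V} (ha : a ∈ O) : ∃ c, b a c = 1 := by
  obtain ⟨c, -, h⟩ := F.nbr a ha
  exact ⟨c, h⟩

theorem sg_inj (F : LF q b H O W X) {a : V} (ha : a ∈ O) {r r' : V}
    (h : ∀ v, sg q b a r v = sg q b a r' v) : r = r' ∨ r = r' + a := by
  obtain ⟨c, hc⟩ := F.exists_c ha
  have h1 := h c
  rw [sg, sg, hc, one_smul, one_smul, mul_one, mul_one, add_assoc, add_assoc, add_assoc, add_assoc] at h1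
  have h2 := add_left_cancel h1
  have h3 : r = r' + (b r c + b r' c + q r + q r') • a := by
    have e : r = (b r c • a + (r + q r • a)) + (b r c • a + q r • a) := by vec2
    rw [h2] at e
    refine e.trans ?_
    vec2
  rcases zm (b r c + b r' c + q r + q r') with h4 | h4
  · left; rw [h4, zero_smul, add_zero] at h3; exact h3
  · right; rw [h4, one_smul] at h3; exact h3

/-- `R ≤ N` -/
theorem N_R (F : LF q b H O W X) {a : V} (ha : a ∈ O) {r : V} (h : IsR q b X a r) : IsN b X a r := by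
  obtain ⟨h1, u, hu, h2⟩ := h
  refine ⟨h1, fun x hx => ?_⟩
  apply F.sg_inj ha
  intro v
  -- `sg a (x r) v = x (sg a r (x v)) = x (u (x v)) = u v`
  have h3 := F.sg_conj (F.X_H a ha x hx) a r (x v)
  rw [F.X_a a ha x hx, F.X_sq a ha x hx, ← h2, F.X_comm a ha u hu x hx, F.X_sq a ha x hx, h2] at h3
  exact h3.symm

/-- `R ∩ W = ⟨a⟩` -/
theorem R_W (F : LF q b H O W X) {a : V} (ha : a ∈ O) {r : V} (h : IsR q b X a r) (hw : r ∈ W a) :
    r = 0 ∨ r = a := by
  obtain ⟨h1, u, hu, h2⟩ := h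
  obtain ⟨c, hc⟩ := F.exists_c ha
  have h3 : u = 1 := by
    apply F.inj a ha u hu c hc
    rw [h2, sg, hc]
    have e : c + b r c • a + (1 : ZMod 2) • r + (q r * 1) • a + c = b r c • a + r + q r • a := by vec2
    rw [e]
    exact (W a).add_mem ((W a).add_mem ((W a).smul_mem _ (F.self_W a ha)) hw)
      ((W a).smul_mem _ (F.self_W a ha))
  have h4 : ∀ v, sg q b a r v = sg q b a a v := by
    intro v
    rw [F.sg_a ha, ← h2, h3, one_app]
  rcases F.sg_inj ha h4 with h5 | h5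
  · right; exact h5
  · left; rw [h5, add_self]

/-- if `x ∈ X a` and `[a^⊥, x] ≤ ⟨a⟩` then `x` is the Siegel map of `x c + c` -/
theorem eq_sg (F : LF q b H O W X) {a : V} (ha : a ∈ O) {c : V} (hc : b a c = 1)
    {x : V ≃ₗ[ZMod 2] V} (hx : x ∈ X a) (h : ∀ v, b a v = 0 → x v = v ∨ x v = v + a) (v : V) :
    x v = sg q b a (x c + c) v := by
  have key : ∀ v, b a v = 0 → x v = sg q b a (x c + c) v := by
    intro v hv
    rw [F.X_val ha hx hc (h v hv), sg, hv, F.comm v]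
    vec2
  have key2 : x c = sg q b a (x c + c) c := by
    have h1 : b (x c + c) c = q (x c + c) := by
      rw [F.q_add, F.q_X ha hx, map_add, LinearMap.add_apply, F.self]; grind
    rw [sg, hc, h1]
    vec2
  rcases zm (b a v) with hv | hv
  · exact key v hv
  · have h1 : b a (v + c) = 0 := by rw [map_add, hv, hc]; rfl
    have h2 := key _ h1
    have h3 : x v = x (v + c) + x c := by rw [map_add, add_add']
    have h4 : ∀ r, sg q b a r v = sg q b a r (v + c) + sg q b a r c := by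
      intro r
      simp only [sg, map_add]
      vec2
    rw [h3, h2, h4]
    nth_rewrite 2 [key2]
    rfl

/-! ### The trilinear form -/

variable {a c : V} {x y z : V ≃ₗ[ZMod 2] V}

/-- `s_{xy} = y s_x + s_y` -/
theorem s_mul (F : LF q b H O W X) (ha : a ∈ O) (hx : x ∈ X a) (hy : y ∈ X a) (c : V) :
    (x * y) c + c = y (x c + c) + (y c + c) := by
  rw [mul_app, F.X_comm a ha x hx y hy, map_add]
  vec2

theorem T_symm (F : LF q b H O W X) (ha : a ∈ O) (hx : x ∈ X a) (hy : y ∈ X a) (z : V ≃ₗ[ZMod 2] V) :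
    T b c x y z = T b c y x z := by
  have h : y (x c + c) + (x c + c) = x (y c + c) + (y c + c) := by
    rw [map_add, map_add, F.X_comm a ha x hx y hy]
    vec2
  rw [T, T, h]

theorem T_symm' (F : LF q b H O W X) (ha : a ∈ O) (hy : y ∈ X a) :
    T b c x y z = T b c z y x := by
  have h1 := F.b_X ha hy (x c + c) (z c + c)
  have h2 := F.comm (x c + c) (y (z c + c))
  have h3 := F.comm (x c + c) (z c + c)
  rw [T, T, map_add b (y (x c + c)), LinearMap.add_apply, map_add b (y (z c + c)), LinearMap.add_apply,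
    h1, h2, h3]

theorem T_symm'' (F : LF q b H O W X) (ha : a ∈ O) (hx : x ∈ X a) (hy : y ∈ X a) (hz : z ∈ X a) :
    T b c x y z = T b c x z y := by
  rw [F.T_symm ha hx hy, F.T_symm' ha hx, F.T_symm ha hz hx]

theorem T_self (F : LF q b H O W X) (ha : a ∈ O) (hx : x ∈ X a) (z : V ≃ₗ[ZMod 2] V) :
    T b c x x z = 0 := by
  have h : x (x c + c) + (x c + c) = 0 := by
    rw [map_add, F.X_sq a ha x hx]; vec2
  rw [T, h, map_zero, LinearMap.zero_apply]

theorem T_self' (F : LF q b H O W X) (ha : a ∈ O) (hx : x ∈ X a) (hy : y ∈ X a) :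
    T b c x y y = 0 := by
  rw [F.T_symm' ha hy, F.T_self ha hy]

theorem T_self'' (F : LF q b H O W X) (ha : a ∈ O) (hx : x ∈ X a) (hy : y ∈ X a) :
    T b c x y x = 0 := by
  rw [F.T_symm'' ha hx hy hx, F.T_self ha hx]

/-- additivity in the last argument -/
theorem T_mul (F : LF q b H O W X) (ha : a ∈ O) (hx : x ∈ X a) (hy : y ∈ X a)
    {z' : V ≃ₗ[ZMod 2] V} (hz : z ∈ X a) (hz' : z' ∈ X a) :
    T b c x y (z * z') = T b c x y z + T b c x y z' := by
  have h1 : y (x c + c) + (x c + c) ∈ W a := F.X_perp a ha y hy _ (F.s_perp ha hx c)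
  have h2 : z' (z c + c) + (z c + c) ∈ W a := F.X_perp a ha z' hz' _ (F.s_perp ha hz c)
  have h3 := F.b_W ha h1 h2
  rw [map_add] at h3
  rw [T, T, T, F.s_mul ha hz hz', map_add _ (z' (z c + c))]
  grind

theorem T_mul' (F : LF q b H O W X) (ha : a ∈ O) (hx : x ∈ X a) 
    {y' : V ≃ₗ[ZMod 2] V} (hy : y ∈ X a) (hy' : y' ∈ X a) (hz : z ∈ X a)  :
    T b c x (y * y') z = T b c x y z + T b c x y' z := by
  rw [F.T_symm'' ha hx ((X a).mul_mem hy hy') hz, F.T_mul ha hx hz hy hy', F.T_symm'' ha hx hz hy,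
    F.T_symm'' ha hx hz hy']

/-- `s_y ∈ N` gives `T(y, ·, ·) = 0` -/
theorem T_of_N (F : LF q b H O W X) (ha : a ∈ O) (hz : z ∈ X a) (hy : y ∈ X a)
    (hN : IsN b X a (x c + c)) : T b c x y z = 0 := by
  have h := F.s_perp ha hz c
  rw [T]
  rcases hN.2 y hy with h1 | h1
  · rw [h1, add_self, map_zero, LinearMap.zero_apply]
  · rw [h1, add_right_comm, add_self, zero_add, h]

theorem T_one (F : LF q b H O W X) (ha : a ∈ O) (hy : y ∈ X a) (hz : z ∈ X a) : T b c 1 y z = 0 := by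
  apply F.T_of_N ha hz hy
  rw [one_app, add_self]
  exact N_zero a

/-- vectors perpendicular to `a^⊥` -/
theorem eq_of_perp (F : LF q b H O W X) (ha : a ∈ O) {v : V} (h : ∀ t, b a t = 0 → b v t = 0) :
    v = 0 ∨ v = a := by
  have hA := F.alt
  obtain ⟨c, hc⟩ := F.exists_c ha
  rcases zm (b v c) with h1 | h1
  · left
    apply hA.nondeg
    intro w
    rcases zm (b a w) with h2 | h2
    · exact h w h2
    · have h3 := h (w + c) (by rw [map_add, h2, hc]; rfl)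
      rw [map_add, h1, add_zero] at h3
      exact h3
  · right
    apply eq_of_add
    apply hA.nondeg
    intro w
    rw [map_add, LinearMap.add_apply]
    rcases zm (b a w) with h2 | h2
    · rw [h w h2, h2]; rfl
    · have h3 := h (w + c) (by rw [map_add, h2, hc]; rfl)
      rw [map_add, h1] at h3
      rw [h2, h3]

/-- `T(y, ·, ·) = 0` gives `s_y ∈ N` -/
theorem N_of_T (F : LF q b H O W X) (ha : a ∈ O) (hc : b a c = 1) (hx : x ∈ X a)
    (h : ∀ y ∈ X a, ∀ z ∈ X a, T b c x y z = 0) : IsN b X a (x c + c) := by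
  refine ⟨F.s_perp ha hx c, fun y hy => ?_⟩
  have h1 : y (x c + c) + (x c + c) ∈ W a := F.X_perp a ha y hy _ (F.s_perp ha hx c)
  have h2 : y (x c + c) + (x c + c) = 0 ∨ y (x c + c) + (x c + c) = a := by
    apply F.eq_of_perp ha
    intro t ht
    obtain ⟨z, hz, hw⟩ := F.surj a ha c hc t ht
    have h3 := F.b_W ha h1 hw
    rw [map_add _ (z c + c)] at h3
    have h4 : b (y (x c + c) + (x c + c)) (z c + c) = 0 := h y hy z hz
    rw [h4, zero_add] at h3
    exact h3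
  rcases h2 with h2 | h2
  · left; exact eq_of_add h2
  · right
    rw [← h2]; vec2

/-- elements of `N` are `s_x` modulo `W` with `s_x ∈ N` -/
theorem exists_of_N (F : LF q b H O W X) (ha : a ∈ O) (hc : b a c = 1) {v : V} (hv : IsN b X a v) :
    ∃ x ∈ X a, x c + c + v ∈ W a ∧ IsN b X a (x c + c) := by
  obtain ⟨x, hx, hw⟩ := F.surj a ha c hc v hv.1
  exact ⟨x, hx, hw, N_of_add (F.N_W ha hw) hv⟩

/-- `s_x ∈ N` ⇒ `x` is a Siegel map -/
theorem sg_of_N (F : LF q b H O W X) (ha : a ∈ O) (hc : b a c = 1) (hx : x ∈ X a)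
    (hN : IsN b X a (x c + c)) (v : V) : x v = sg q b a (x c + c) v := by
  apply F.eq_sg ha hc hx
  intro v hv
  -- `v = s_y + w`
  obtain ⟨y, hy, hw⟩ := F.surj a ha c hc v hv
  have h1 : x (y c + c) = y c + c ∨ x (y c + c) = y c + c + a := by
    have h2 : x (y c + c) + (y c + c) = y (x c + c) + (x c + c) := by
      rw [map_add, map_add, F.X_comm a ha x hx y hy]; vec2
    rcases hN.2 y hy with h3 | h3
    · left; rw [h3, add_self] at h2; exact eq_of_add h2
    · right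
      rw [h3, add_right_comm, add_self, zero_add] at h2
      rw [← h2]; vec2
  have h2 := F.X_W a ha x hx _ hw
  have h3 : x v = x (y c + c + v) + x (y c + c) := by rw [map_add, add_comm (x (y c + c)), add_add']
  rw [h3]
  rcases h1 with h1 | h1 <;> rcases h2 with h2 | h2 <;> rw [h1, h2]
  · left; vec2
  · right; vec2
  · right; vec2
  · left; vec2

/-- `N = R + W` -/
theorem exists_R_add_W (F : LF q b H O W X) (ha : a ∈ O) {v : V} (hv : IsN b X a v) :
    ∃ r w, IsR q b X a r ∧ w ∈ W a ∧ v = r + w := by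
  obtain ⟨c, hc⟩ := F.exists_c ha
  obtain ⟨x, hx, hw, hN⟩ := F.exists_of_N ha hc hv
  refine ⟨x c + c, x c + c + v, ⟨F.s_perp ha hx c, x, hx, F.sg_of_N ha hc hx hN⟩, hw, by vec2⟩

/-- (B4) -/
theorem N_of_sg (F : LF q b H O W X) (ha : a ∈ O) {y : V} (hy : b a y = 0) {h : V ≃ₗ[ZMod 2] V}
    (hh : h ∈ H) (hs : ∀ v, h v = sg q b a y v) : IsN b X a y := by
  refine ⟨hy, fun x hx => ?_⟩
  have hha : h a = a := by
    rw [hs, sg, F.self, F.comm y a, hy]; vec2
  have hinv : ∀ v, h⁻¹ v = sg q b a y v := by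
    intro v
    have h1 : h (sg q b a y v) = v := by rw [hs, F.sg_sq hy]
    rw [← h1, app_inv, h1]
  have hxX : h * x⁻¹ * h⁻¹ ∈ X a := by
    have := F.X_map h hh a ha _ ((X a).inv_mem hx)
    rwa [hha] at this
  have hxy : b a (x y) = 0 := by rw [F.a_X ha hx, hy]
  have hmem : x * (h * x⁻¹ * h⁻¹) ∈ X a := (X a).mul_mem hx hxX
  have hR : IsR q b X a (x y + y) := by
    refine ⟨by rw [map_add, hxy, hy, add_zero], _, hmem, fun v => ?_⟩
    show x (h (x⁻¹ (h⁻¹ v))) = _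
    rw [hs, F.sg_conj (F.X_H a ha x hx), F.X_a a ha x hx, inv_app, hinv, F.sg_add hxy hy]
  have hW : x y + y ∈ W a := F.X_perp a ha x hx y hy
  rcases F.R_W ha hR hW with h1 | h1
  · left; exact eq_of_add h1
  · right; rw [← h1]; vec2

/-- `W^⊥ ≤ N` -/
theorem N_of_perp_W (F : LF q b H O W X) (ha : a ∈ O) {v : V} (hv : ∀ w ∈ W a, b v w = 0) :
    IsN b X a v := by
  have hav : b a v = 0 := by rw [F.comm]; exact hv a (F.self_W a ha)
  refine ⟨hav, fun x hx => ?_⟩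
  have h2 : x v + v = 0 ∨ x v + v = a := by
    apply F.eq_of_perp ha
    intro t ht
    have h3 := hv _ (F.X_perp a ha x hx t ht)
    rw [map_add] at h3
    rw [map_add, LinearMap.add_apply, F.b_X ha hx]
    exact h3
  rcases h2 with h2 | h2
  · left; exact eq_of_add h2
  · right; rw [← h2]; vec2

/-! ### equivariance -/

theorem R_map (F : LF q b H O W X) (ha : a ∈ O) {h : V ≃ₗ[ZMod 2] V} (hh : h ∈ H) {r : V}
    (hr : IsR q b X a r) : IsR q b X (h a) (h r) := by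
  obtain ⟨h1, x, hx, h2⟩ := hr
  refine ⟨by rw [F.b_H hh]; exact h1, _, F.X_map h hh a ha x hx, fun v => ?_⟩
  show h (x (h⁻¹ v)) = _
  rw [h2, F.sg_conj hh, inv_app]

theorem N_map (F : LF q b H O W X) (ha : a ∈ O) {h : V ≃ₗ[ZMod 2] V} (hh : h ∈ H) {v : V}
    (hv : IsN b X a v) : IsN b X (h a) (h v) := by
  refine ⟨by rw [F.b_H hh]; exact hv.1, fun x hx => ?_⟩
  have h1 : h⁻¹ * x * h⁻¹⁻¹ ∈ X (h⁻¹ (h a)) := F.X_map h⁻¹ (H.inv_mem hh) (h a) (F.stable h hh a ha) x hx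
  rw [app_inv, inv_inv] at h1
  have h2 : x (h v) = h ((h⁻¹ * x * h) v) := by
    show x (h v) = h (h⁻¹ (x (h v)))
    rw [inv_app]
  rw [h2]
  rcases hv.2 _ h1 with h3 | h3
  · left; rw [h3]
  · right; rw [h3, map_add]

theorem C_map (F : LF q b H O W X) (ha : a ∈ O) {h : V ≃ₗ[ZMod 2] V} (hh : h ∈ H) {v : V}
    (hv : IsC X a v) : IsC X (h a) (h v) := by
  intro x hx
  have h1 : h⁻¹ * x * h⁻¹⁻¹ ∈ X (h⁻¹ (h a)) := F.X_map h⁻¹ (H.inv_mem hh) (h a) (F.stable h hh a ha) x hx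
  rw [app_inv, inv_inv] at h1
  have h2 : x (h v) = h ((h⁻¹ * x * h) v) := by
    show x (h v) = h (h⁻¹ (x (h v)))
    rw [inv_app]
  rw [h2, hv _ h1]

/-! ### (B7) -/

theorem exists_move (F : LF q b H O W X) (ha : a ∈ O) {w : V} (hw : w ∈ W a) (h0 : w ≠ 0)
    (h1 : w ≠ a) : ∃ x ∈ X a, x w = w + a := by
  by_contra hcon
  push Not at hcon
  obtain ⟨c, hc⟩ := F.exists_c ha
  have h2 : w = 0 ∨ w = a := by
    apply F.eq_of_perp ha
    intro t ht
    obtain ⟨x, hx, hxt⟩ := F.surj a ha c hc t ht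
    have h3 := F.b_W ha hw hxt
    rcases F.X_W a ha x hx w hw with h4 | h4
    · have h5 := F.X_val ha hx hc (Or.inl h4)
      rw [h4] at h5
      have h6 : b w (x c + c) • a = 0 := by
        have : w + b w (x c + c) • a = w + 0 := by rw [← h5, add_zero]
        exact add_left_cancel this
      have h7 : b w (x c + c) = 0 := by
        rcases smul_eq_zero.1 h6 with h8 | h8
        · exact h8
        · exact absurd h8 (F.zero a ha)
      rw [map_add _ (x c + c), h7, zero_add] at h3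
      exact h3
    · exact absurd h4 (hcon x hx)
  rcases h2 with h2 | h2
  · exact h0 h2
  · exact h1 h2

end LF

end Cfsg.Agent.Omega.EH3.TwoC
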