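import Cfsg.Agent.Omega.EH3.TwoC.Sieg

/-!
# THEOREM 2C: case (N4) (helper330)

All nonzero vectors of `R'_c = R_c ∩ a^⊥` are nonsingular, `|R_a / ⟨a⟩| > 2`: impossible.
-/

set_option autoImplicit false

namespace Cfsg.Agent.Omega.EH3.TwoC

open Cfsg.Agent.LargeExtra.SiegFam Cfsg.Agent.LargeExtra.SiegFam.Lin

variable {V : Type*} [AddCommGroup V] [Module (ZMod 2) V]

/-- case (N): the nonzero vectors of `R_c ∩ a^⊥` are nonsingular -/
def NSing (q : V → ZMod 2) (b : LinearMap.BilinForm (ZMod 2) V) (O : Set V)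
    (X : V → Subgroup (V ≃ₗ[ZMod 2] V)) : Prop :=
  ∀ a ∈ O, ∀ c ∈ O, b a c = 1 → ∀ m, IsR q b X c m → b a m = 0 → m ≠ 0 → q m = 1

variable {q : V → ZMod 2} {b : LinearMap.BilinForm (ZMod 2) V}

namespace LF

variable {H : Subgroup (V ≃ₗ[ZMod 2] V)} {O : Set V} {W : V → Submodule (ZMod 2) V}
  {X : V → Subgroup (V ≃ₗ[ZMod 2] V)}
variable {a c : V} {x y z : V ≃ₗ[ZMod 2] V}

/-- additivity in the first argument -/
theorem T_mul1 (F : LF q b H O W X) (ha : a ∈ O) {x' : V ≃ₗ[ZMod 2] V} (hx : x ∈ X a) (hx' : x' ∈ X a)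
    (hy : y ∈ X a) (hz : z ∈ X a) : T b c (x * x') y z = T b c x y z + T b c x' y z := by
  rw [F.T_symm' ha hy, F.T_mul ha hz hy hx hx', F.T_symm' ha hy (x := z) (z := x),
    F.T_symm' ha hy (x := z) (z := x')]

/-- `g(xy) = g(x) + g(y) + b(s_x, s_y)` -/
theorem g_mul (F : LF q b H O W X) (ha : a ∈ O) (hx : x ∈ X a) (_hy : y ∈ X a) :
    b c ((x * y) c) = b c (x c) + b c (y c) + b (x c + c) (y c + c) := by
  have h1 : b c ((x * y) c) = b (x c) (y c) := by
    rw [mul_app]; exact (F.b_X ha hx c (y c)).symm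
  rw [h1, map_add b, LinearMap.add_apply, map_add, map_add, F.comm (x c) c, F.self c]
  grind

/-- if `T(x,y,z) = 1` then `g = 1` on one of the products -/
theorem exists_g (F : LF q b H O W X) (ha : a ∈ O) (hx : x ∈ X a) (hy : y ∈ X a) (hz : z ∈ X a)
    (P : (V ≃ₗ[ZMod 2] V) → Prop) (hPx : P x) (hPy : P y) (hPz : P z)
    (hP : ∀ e g, P e → P g → P (e * g)) (h : T b c x y z = 1) :
    ∃ p ∈ X a, P p ∧ b c (p c) = 1 := by
  by_contra hcon
  push Not at hcon
  have h0 : ∀ p ∈ X a, P p → b c (p c) = 0 := by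
    intro p hp hPp
    rcases zm (b c (p c)) with h1 | h1
    · exact h1
    · exact absurd h1 (hcon p hp hPp)
  have hxy := (X a).mul_mem hx hy
  have h1 := F.g_mul (c := c) ha hxy hz
  have h2 := F.g_mul (c := c) ha hx hz
  have h3 := F.g_mul (c := c) ha hy hz
  rw [h0 _ ((X a).mul_mem hxy hz) (hP _ _ (hP _ _ hPx hPy) hPz), h0 _ hxy (hP _ _ hPx hPy), h0 z hz hPz] at h1
  rw [h0 _ ((X a).mul_mem hx hz) (hP _ _ hPx hPz), h0 x hx hPx, h0 z hz hPz] at h2
  rw [h0 _ ((X a).mul_mem hy hz) (hP _ _ hPy hPz), h0 y hy hPy, h0 z hz hPz] at h3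
  rw [F.s_mul ha hx hy, map_add b, LinearMap.add_apply] at h1
  rw [T, map_add b, LinearMap.add_apply] at h
  grind

theorem nonorth (F : LF q b H O W X) (hN : NSing q b O X) (ha : a ∈ O) (hc : c ∈ O) (hac : b a c = 1)
    {n n' : V} (hn : IsR q b X a n) (hcn : b c n = 0) (hn0 : n ≠ 0) (hn' : IsR q b X a n')
    (hcn' : b c n' = 0) (hn0' : n' ≠ 0) (hne : n ≠ n') : b n n' = 1 := by
  have hca : b c a = 1 := by rw [F.comm]; exact hac
  have h1 := hN c hc a ha hca n hn hcn hn0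
  have h2 := hN c hc a ha hca n' hn' hcn' hn0'
  have h3 := hN c hc a ha hca (n + n') (F.R_add hn hn') (by rw [map_add, hcn, hcn', add_zero])
    (fun h => hne (eq_of_add h))
  rw [F.q_add, h1, h2] at h3
  grind

/-- if one orthogonal pair `n ≠ m` exists, `m` is perpendicular to `R'_a` -/
theorem alpha (F : LF q b H O W X) (hN : NSing q b O X) (ha : a ∈ O) (hc : c ∈ O) (hac : b a c = 1)
    {n m : V} (hn : IsR q b X a n) (hcn : b c n = 0) (hn0 : n ≠ 0) (hm : IsR q b X c m)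
    (ham : b a m = 0) (hm0 : m ≠ 0) (hnm : b n m = 0) (hne : n ≠ m) :
    ¬ IsR q b X a m ∧ ∀ n', IsR q b X a n' → b c n' = 0 → b n' m = 0 := by
  have hca : b c a = 1 := by rw [F.comm]; exact hac
  have key : ¬ IsR q b X a m := by
    intro h1
    have h2 := F.nonorth hN ha hc hac hn hcn hn0 h1 hm.1 hm0 hne
    rw [hnm] at h2
    exact zero_ne_one h2
  refine ⟨key, fun n' hn' hcn' => ?_⟩
  obtain ⟨h, hhH, hha, -, hh⟩ := F.exists_tt ha hc hac hn hcn hm ham hnm
    (hN c hc a ha hca n hn hcn hn0) (hN a ha c hc hac m hm ham hm0)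
  rcases zm (b n' m) with h1 | h1
  · exact h1
  · exfalso
    apply key
    have h2 := F.R_map ha hhH hn'
    rw [hha, hh, F.comm m n', h1, one_smul] at h2
    have h3 : IsR q b X a (b n n' • n) := by
      rcases zm (b n n') with h4 | h4
      · rw [h4, zero_smul]; exact F.R_zero a
      · rw [h4, one_smul]; exact hn
    have h5 := F.R_add (F.R_add h2 hn') h3
    have e : n' + b n n' • n + m + n' + b n n' • n = m := by vec2
    rwa [e] at h5

/-- two distinct nonzero vectors of `R'_a` -/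
theorem exists_two' (F : LF q b H O W X) (ha : a ∈ O) (hac : b a c = 1)
    (h2 : ∃ r r', IsR q b X a r ∧ IsR q b X a r' ∧ r ≠ 0 ∧ r ≠ a ∧ r' ≠ 0 ∧ r' ≠ a ∧ r' ≠ r ∧ r' ≠ r + a) :
    ∃ n n', IsR q b X a n ∧ IsR q b X a n' ∧ b c n = 0 ∧ b c n' = 0 ∧ n ≠ 0 ∧ n' ≠ 0 ∧ n ≠ n' := by
  obtain ⟨r, r', hr, hr', h3, h4, h5, h6, h7, h8⟩ := h2
  have hca : b c a = 1 := by rw [F.comm]; exact hac
  have key : ∀ r, IsR q b X a r → r ≠ 0 → r ≠ a → IsR q b X a (r + b c r • a) ∧ b c (r + b c r • a) = 0 ∧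
      r + b c r • a ≠ 0 := by
    intro r hr h0 h1
    refine ⟨?_, ?_, ?_⟩
    · rcases zm (b c r) with h2 | h2
      · rw [h2, zero_smul, add_zero]; exact hr
      · rw [h2, one_smul]; exact F.R_add hr (F.R_self ha)
    · rw [map_add, map_smul, hca, smul_eq_mul, mul_one, zadd]
    · rcases zm (b c r) with h2 | h2
      · rw [h2, zero_smul, add_zero]; exact h0
      · rw [h2, one_smul]; exact fun h => h1 (eq_of_add h)
  obtain ⟨k1, k2, k3⟩ := key r hr h3 h4
  obtain ⟨k4, k5, k6⟩ := key r' hr' h5 h6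
  refine ⟨_, _, k1, k4, k2, k5, k3, k6, ?_⟩
  intro h
  have h9 : r' = r + (b c r + b c r') • a := by
    have e : r' = (r' + b c r' • a) + b c r' • a := by vec2
    rw [← h] at e
    refine e.trans ?_
    vec2
  rcases zm (b c r + b c r') with h10 | h10
  · rw [h10, zero_smul, add_zero] at h9; exact h7 h9
  · rw [h10, one_smul] at h9; exact h8 h9

/-- there is a pair with `R'_a = R'_c` -/
theorem exists_pair_eq (F : LF q b H O W X) (hN : NSing q b O X) 
    (h2 : ∀ a ∈ O, ∃ r r', IsR q b X a r ∧ IsR q b X a r' ∧ r ≠ 0 ∧ r ≠ a ∧ r' ≠ 0 ∧ r' ≠ a ∧ r' ≠ r ∧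
      r' ≠ r + a) {a0 : V} (ha0 : a0 ∈ O) :
    ∃ a ∈ O, ∃ c ∈ O, b a c = 1 ∧ ∀ t, (IsR q b X a t ∧ b c t = 0) ↔ (IsR q b X c t ∧ b a t = 0) := by
  obtain ⟨c0, hc0, hac⟩ := F.nbr a0 ha0
  have hca : b c0 a0 = 1 := by rw [F.comm]; exact hac
  obtain ⟨n1, n2, hn1, hn2, hcn1, hcn2, hn10, hn20, hn12⟩ := F.exists_two' ha0 hac (h2 a0 ha0)
  obtain ⟨m1, m2, hm1, hm2, ham1, ham2, hm10, hm20, hm12⟩ := F.exists_two' hc0 hca (h2 c0 hc0)
  by_cases hα : ∃ n m, (IsR q b X a0 n ∧ b c0 n = 0 ∧ n ≠ 0) ∧ (IsR q b X c0 m ∧ b a0 m = 0 ∧ m ≠ 0) ∧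
      b n m = 0 ∧ n ≠ m
  · obtain ⟨n, m, ⟨hn, hcn, hn0⟩, ⟨hm, ham, hm0⟩, hnm, hne⟩ := hα
    obtain ⟨k1, k2⟩ := F.alpha hN ha0 hc0 hac hn hcn hn0 hm ham hm0 hnm hne
    -- `R'_a ⊥ R'_c`
    have hperp : ∀ n', IsR q b X a0 n' → b c0 n' = 0 → ∀ m', IsR q b X c0 m' → b a0 m' = 0 →
        b n' m' = 0 := by
      intro n' hn' hcn' m' hm' ham'
      by_cases h0 : n' = 0
      · rw [h0, map_zero]; rfl
      · have h3 := k2 n' hn' hcn'
        have h4 : m ≠ n' := by rintro rfl; exact k1 hn'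
        have h5 : b m n' = 0 := by rw [F.comm]; exact h3
        obtain ⟨-, k4⟩ := F.alpha hN hc0 ha0 hca hm ham hm0 hn' hcn' h0 h5 h4
        rw [F.comm]
        exact k4 m' hm' ham'
    obtain ⟨han, u, hu, h1⟩ := hn
    have huH := F.X_H a0 ha0 u hu
    have huu : ∀ t, u (u t) = t := F.X_sq a0 ha0 u hu
    have hqn : q n = 1 := hN c0 hc0 a0 ha0 hca n ⟨han, u, hu, h1⟩ hcn hn0
    have huc : u c0 = c0 + n + a0 := by
      rw [h1, sg, F.comm n c0, hcn, hac, hqn]; vec2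
    have hc' : u c0 ∈ O := F.stable u huH c0 hc0
    have hbcc : b c0 (u c0) = 1 := by
      rw [huc, map_add, map_add, F.self, hcn, hca]; rfl
    -- `u` fixes `R'_c`
    have hfix : ∀ t, IsR q b X c0 t → b a0 t = 0 → u t = t := by
      intro t ht hat
      rw [h1, sg, hat, hperp n ⟨han, u, hu, h1⟩ hcn t ht hat]
      vec2
    refine ⟨c0, hc0, u c0, hc', hbcc, fun t => ⟨?_, ?_⟩⟩
    · rintro ⟨ht, htc⟩
      have hat : b a0 t = 0 := by
        rcases zm (b a0 t) with h5 | h5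
        · exact h5
        · exfalso
          have h6 := F.R_add ht (F.R_self hc0)
          have h7 : b a0 (t + c0) = 0 := by rw [map_add, h5, hac]; rfl
          have h8 := hfix _ h6 h7
          have h9 : b (u c0) (t + c0) = 0 := by
            rw [← h8, F.b_H huH]; exact h6.1
          rw [map_add, htc, zero_add, F.comm, hbcc] at h9
          exact one_ne_zero h9
      have h8 := hfix t ht hat
      refine ⟨?_, ht.1⟩
      have h9 := F.R_map hc0 huH ht
      rwa [h8] at h9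
    · rintro ⟨ht, htc⟩
      have h5 := F.R_map hc' huH ht
      rw [huu] at h5
      rcases zm (b a0 (u t)) with h6 | h6
      · have h7 := hfix _ h5 h6
        rw [huu] at h7
        rw [← h7] at h5
        exact ⟨h5, ht.1⟩
      · exfalso
        have h7 := F.R_add h5 (F.R_self hc0)
        have h8 : b a0 (u t + c0) = 0 := by rw [map_add, h6, hac]; rfl
        have h9 := hfix _ h7 h8
        rw [map_add, huu] at h9
        have h10 : t = u t + c0 + u c0 := by rw [← h9]; vec2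
        rw [h10, map_add, map_add, h5.1, F.self, hbcc] at htc
        exact one_ne_zero htc
  · push Not at hα
    have key : ∀ {a c : V}, a ∈ O → c ∈ O → b a c = 1 →
        (∀ n m, (IsR q b X a n ∧ b c n = 0 ∧ n ≠ 0) → (IsR q b X c m ∧ b a m = 0 ∧ m ≠ 0) →
          b n m = 0 → n = m) →
        (∃ n1 n2, IsR q b X a n1 ∧ IsR q b X a n2 ∧ b c n1 = 0 ∧ b c n2 = 0 ∧ n1 ≠ 0 ∧ n2 ≠ 0 ∧ n1 ≠ n2) →
        ∀ t, (IsR q b X c t ∧ b a t = 0) → (IsR q b X a t ∧ b c t = 0) := by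
      intro a c ha hc hac hα ⟨n1, n2, hn1, hn2, hcn1, hcn2, hn10, hn20, hn12⟩ t ⟨ht, hat⟩
      by_cases h0 : t = 0
      · subst h0; exact ⟨F.R_zero a, map_zero _⟩
      · refine ⟨?_, ht.1⟩
        rcases zm (b n1 t) with h3 | h3
        · rw [← hα n1 t ⟨hn1, hcn1, hn10⟩ ⟨ht, hat, h0⟩ h3]; exact hn1
        · rcases zm (b n2 t) with h4 | h4
          · rw [← hα n2 t ⟨hn2, hcn2, hn20⟩ ⟨ht, hat, h0⟩ h4]; exact hn2
          · rw [← hα (n1 + n2) t ⟨F.R_add hn1 hn2, by rw [map_add, hcn1, hcn2, add_zero],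
              fun h => hn12 (eq_of_add h)⟩ ⟨ht, hat, h0⟩
              (by rw [map_add, LinearMap.add_apply, h3, h4]; rfl)]
            exact F.R_add hn1 hn2
    refine ⟨a0, ha0, c0, hc0, hac, fun t => ⟨?_, ?_⟩⟩
    · refine key hc0 ha0 hca ?_ ⟨m1, m2, hm1, hm2, ham1, ham2, hm10, hm20, hm12⟩ t
      intro m n hm hn hmn
      exact (hα n m hn hm (by rw [F.comm]; exact hmn)).symm
    · refine key ha0 hc0 hac ?_ ⟨n1, n2, hn1, hn2, hcn1, hcn2, hn10, hn20, hn12⟩ t
      intro n m hn hm hmn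
      exact hα n m hn hm hmn

/-- (N4) is impossible -/
theorem four_false (F : LF q b H O W X) (hT : TNe b O X) (hN : NSing q b O X) 
    (h2 : ∀ a ∈ O, ∃ r r', IsR q b X a r ∧ IsR q b X a r' ∧ r ≠ 0 ∧ r ≠ a ∧ r' ≠ 0 ∧ r' ≠ a ∧ r' ≠ r ∧
      r' ≠ r + a) {a0 : V} (ha0 : a0 ∈ O) : False := by
  obtain ⟨a, ha, c, hc, hac, hiff⟩ := F.exists_pair_eq hN h2 ha0
  have hca : b c a = 1 := by rw [F.comm]; exact hac
  obtain ⟨n1, n2, hn1, hn2, hcn1, hcn2, hn10, hn20, hn12⟩ := F.exists_two' ha hac (h2 a ha)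
  have hb12 := F.nonorth hN ha hc hac hn1 hcn1 hn10 hn2 hcn2 hn20 hn12
  have hb21 : b n2 n1 = 1 := by rw [F.comm]; exact hb12
  -- correction of an element of `X a`
  have hadj : ∀ x ∈ X a, ∃ u ∈ X a, IsN b X a (u c + c) ∧ (x * u) n1 = n1 ∧ (x * u) n2 = n2 := by
    intro x hx
    have hN1 := F.N_R ha hn1
    have hN2 := F.N_R ha hn2
    have k1 := F.X_val ha hx hac (hN1.2 x hx)
    have k2 := F.X_val ha hx hac (hN2.2 x hx)
    have hsm : ∀ (κ : ZMod 2) n, IsR q b X a n → IsR q b X a (κ • n) := by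
      intro κ n hn
      rcases zm κ with rfl | rfl
      · rw [zero_smul]; exact F.R_zero a
      · rw [one_smul]; exact hn
    have hR := F.R_add (hsm (b n2 (x c + c)) n1 hn1) (hsm (b n1 (x c + c)) n2 hn2)
    obtain ⟨h0, u, hu, h1⟩ := hR
    refine ⟨u, hu, ?_, ?_, ?_⟩
    · have h3 : IsN b X a (b n2 (x c + c) • n1 + b n1 (x c + c) • n2) := F.N_R ha ⟨h0, u, hu, h1⟩
      have h4 := N_add h3 (F.N_W ha ((W a).smul_mem (b (b n2 (x c + c) • n1 + b n1 (x c + c) • n2) c +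
        q (b n2 (x c + c) • n1 + b n1 (x c + c) • n2)) (F.self_W a ha)))
      generalize b n2 (x c + c) • n1 + b n1 (x c + c) • n2 = n at *
      have e : u c + c = n + (b n c + q n) • a := by
        rw [h1, sg, hac]; vec2
      rw [e]; exact h4
    · rw [mul_app, h1, sg, hn1.1, map_add b, LinearMap.add_apply, map_smul, map_smul,
        LinearMap.smul_apply, LinearMap.smul_apply, F.self, hb21]
      simp only [smul_eq_mul, mul_zero, mul_one, zero_add, zero_smul, add_zero, map_add, map_smul,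
        F.X_a a ha x hx]
      nth_rewrite 1 [k1]
      vec2
    · rw [mul_app, h1, sg, hn2.1, map_add b, LinearMap.add_apply, map_smul, map_smul,
        LinearMap.smul_apply, LinearMap.smul_apply, F.self, hb12]
      simp only [smul_eq_mul, mul_zero, mul_one, zero_smul, add_zero, map_add, map_smul,
        F.X_a a ha x hx]
      nth_rewrite 1 [k2]
      vec2
  obtain ⟨x, hx, y, hy, z, hz, hTxyz⟩ := hT a ha c hac
  obtain ⟨u1, hu1, hNu1, hx1, hx2⟩ := hadj x hx
  obtain ⟨u2, hu2, hNu2, hy1, hy2⟩ := hadj y hy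
  obtain ⟨u3, hu3, hNu3, hz1, hz2⟩ := hadj z hz
  have hx' := (X a).mul_mem hx hu1
  have hy' := (X a).mul_mem hy hu2
  have hz' := (X a).mul_mem hz hu3
  have hT' : T b c (x * u1) (y * u2) (z * u3) = 1 := by
    rw [F.T_mul1 ha hx hu1 hy' hz', F.T_of_N ha hz' hy' hNu1, add_zero,
      F.T_mul' ha hx hy hu2 hz', F.T_symm ha hx hu2, F.T_of_N ha hz' hx hNu2, add_zero,
      F.T_mul ha hx hy hz hu3, F.T_symm' ha hy (z := u3), F.T_of_N ha hx hy hNu3, add_zero, hTxyz]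
  obtain ⟨p, hp, ⟨hp1, hp2⟩, hg⟩ := F.exists_g ha hx' hy' hz' (fun e => e n1 = n1 ∧ e n2 = n2)
    ⟨hx1, hx2⟩ ⟨hy1, hy2⟩ ⟨hz1, hz2⟩ (fun e g he hg => ⟨by rw [mul_app, hg.1, he.1],
      by rw [mul_app, hg.2, he.2]⟩) hT'
  have hqy : q (p c + c) = 1 := by
    rw [F.q_add, F.q_X ha hp, F.comm (p c) c, hg, F.q_a hc]; rfl
  -- the elements `t_n t_y`
  have hW : ∀ n, IsR q b X a n → b c n = 0 → n ≠ 0 → p n = n → ∀ w ∈ W a,
      b n w • n + b (p c + c) w • (p c + c) ∈ W a := by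
    intro n hn hcn hn0 hpn w hw
    have hRc := (hiff n).1 ⟨hn, hcn⟩
    obtain ⟨h, hhH, hha, -, hh⟩ := F.exists_ty ha hc hRc.1 hRc.2 (hN a ha c hc hac n hRc.1 hRc.2 hn0) hp
      hpn hg
    have h3 := F.W_map h hhH a ha w hw
    rw [hha, hh] at h3
    have h4 := (W a).add_mem h3 hw
    have e : w + b n w • n + b (p c + c) w • (p c + c) + w =
      b n w • n + b (p c + c) w • (p c + c) := by vec2
    rwa [e] at h4
  have hperp : ∀ w ∈ W a, b (p c + c) w = 0 := by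
    intro w hw
    rcases zm (b (p c + c) w) with h3 | h3
    · exact h3
    · exfalso
      have hmem : p c + c ∈ W a := by
        rcases zm (b n1 w) with h4 | h4
        · have h5 := hW n1 hn1 hcn1 hn10 hp1 w hw
          rwa [h3, h4, zero_smul, zero_add, one_smul] at h5
        · rcases zm (b n2 w) with h6 | h6
          · have h5 := hW n2 hn2 hcn2 hn20 hp2 w hw
            rwa [h3, h6, zero_smul, zero_add, one_smul] at h5
          · have h5 := hW (n1 + n2) (F.R_add hn1 hn2) (by rw [map_add, hcn1, hcn2, add_zero])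
              (fun h => hn12 (eq_of_add h)) (by rw [map_add, hp1, hp2]) w hw
            rwa [h3, map_add b, LinearMap.add_apply, h4, h6, one_add, zero_smul, zero_add, one_smul] at h5
      rw [F.q_W a ha _ hmem] at hqy
      exact zero_ne_one hqy
  have hNy := F.N_of_perp_W ha hperp
  have hsg := F.sg_of_N ha hac hp hNy
  have hRy : IsR q b X a (p c + c) := ⟨F.s_perp ha hp c, p, hp, hsg⟩
  -- `y + a ∈ R'_a` is perpendicular to `n1, n2`
  have h3 : ∀ n, IsR q b X a n → p n = n → b (p c + c + a) n = 0 := by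
    intro n hn hpn
    have h4 := hsg n
    rw [hpn, sg, hn.1] at h4
    have h5 : b (p c + c) n • a = 0 := by
      have : n + b (p c + c) n • a = n + 0 := by
        rw [add_zero]; refine Eq.trans ?_ h4.symm; vec2
      exact add_left_cancel this
    rcases smul_eq_zero.1 h5 with h6 | h6
    · rw [map_add b, LinearMap.add_apply, h6, hn.1, add_zero]
    · exact absurd h6 (F.zero a ha)
  have h4 := h3 n1 hn1 hp1
  have h5 := h3 n2 hn2 hp2
  have h6 : IsR q b X a (p c + c + a) := F.R_add hRy (F.R_self ha)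
  have h7 : b c (p c + c + a) = 0 := by rw [map_add, map_add, hg, F.self, hca]; rfl
  by_cases h8 : p c + c + a = 0
  · have h9 := eq_of_add h8
    rw [h9, F.q_a ha] at hqy
    exact zero_ne_one hqy
  · by_cases h9 : p c + c + a = n1
    · rw [h9, hb12] at h5
      exact one_ne_zero h5
    · have h10 := F.nonorth hN ha hc hac h6 h7 h8 hn1 hcn1 hn10 h9
      rw [h4] at h10
      exact zero_ne_one h10

end LF

end Cfsg.Agent.Omega.EH3.TwoC
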