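import Cfsg.Agent.Omega.EH3.TwoC.Tri

/-!
# THEOREM 2C: products of Siegel maps (helper330)
-/

set_option autoImplicit false

namespace Cfsg.Agent.Omega.EH3.TwoC

open Cfsg.Agent.LargeExtra.SiegFam Cfsg.Agent.LargeExtra.SiegFam.Lin

variable {V : Type*} [AddCommGroup V] [Module (ZMod 2) V]
variable {q : V → ZMod 2} {b : LinearMap.BilinForm (ZMod 2) V}

namespace LF

variable {H : Subgroup (V ≃ₗ[ZMod 2] V)} {O : Set V} {W : V → Submodule (ZMod 2) V}
  {X : V → Subgroup (V ≃ₗ[ZMod 2] V)}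

/-- `u_(a,n) u_(c,m) u_(a,n) = t_m t_(a+c+n+m)` -/
theorem prod3 (F : LF q b H O W X) {a c n m : V} (hac : b a c = 1) (han : b a n = 0) (ham : b a m = 0)
    (hcn : b c n = 0) (hcm : b c m = 0) (hnm : b n m = 0) (hn : q n = 1) (hm : q m = 1) (v : V) :
    sg q b a n (sg q b c m (sg q b a n v)) =
      v + b m v • m + (b a v + b c v + b n v + b m v) • (a + c + n + m) := by
  have h1 : b c a = 1 := by rw [F.comm]; exact hac
  have h2 : b n a = 0 := by rw [F.comm]; exact han
  have h3 : b m a = 0 := by rw [F.comm]; exact ham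
  have h4 : b n c = 0 := by rw [F.comm]; exact hcn
  have h5 : b m c = 0 := by rw [F.comm]; exact hcm
  have h6 : b m n = 0 := by rw [F.comm]; exact hnm
  have ha := F.self a
  have hc := F.self c
  have hn' := F.self n
  have hm' := F.self m
  simp only [sg, map_add, map_smul, smul_eq_mul, hac, han, ham, hcn, hcm, hnm, hn, hm, h1, h2, h3, h4, h5,
    h6, ha, hc, hn', hm', mul_zero, mul_one, add_zero, zero_add, one_mul]
  vec2

/-- `u_(c,n) u_(c',n) u_(c,n) = t_n t_(c+c')` -/
theorem conj3 (F : LF q b H O W X) {c c' n : V} (hcc : b c c' = 1) (hcn : b c n = 0) (hcn' : b c' n = 0)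
    (hn : q n = 1) (v : V) :
    sg q b c n (sg q b c' n (sg q b c n v)) = v + b n v • n + (b c v + b c' v) • (c + c') := by
  have h1 : b c' c = 1 := by rw [F.comm]; exact hcc
  have h2 : b n c = 0 := by rw [F.comm]; exact hcn
  have h3 : b n c' = 0 := by rw [F.comm]; exact hcn'
  have hc := F.self c
  have hc' := F.self c'
  have hn' := F.self n
  simp only [sg, map_add, map_smul, smul_eq_mul, hcc, hcn, hcn', hn, h1, h2, h3, hc, hc', hn', mul_zero,
    mul_one, add_zero, zero_add, one_mul]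
  vec2

/-- `(u_(a,n) u_(c,m) u_(a,n)) (u_(c,m) u_(a,n) u_(c,m)) = t_m t_n` -/
theorem prod6 (F : LF q b H O W X) {a c n m : V} (hac : b a c = 1) (han : b a n = 0) (ham : b a m = 0)
    (hcn : b c n = 0) (hcm : b c m = 0) (hnm : b n m = 0) (hn : q n = 1) (hm : q m = 1) (v : V) :
    sg q b a n (sg q b c m (sg q b a n (sg q b c m (sg q b a n (sg q b c m v))))) =
      v + b n v • n + b m v • m := by
  have h1 : b c a = 1 := by rw [F.comm]; exact hac
  have h2 : b n a = 0 := by rw [F.comm]; exact han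
  have h3 : b m a = 0 := by rw [F.comm]; exact ham
  have h4 : b n c = 0 := by rw [F.comm]; exact hcn
  have h5 : b m c = 0 := by rw [F.comm]; exact hcm
  have h6 : b m n = 0 := by rw [F.comm]; exact hnm
  have ha := F.self a
  have hc := F.self c
  have hn' := F.self n
  have hm' := F.self m
  rw [F.prod3 hac han ham hcn hcm hnm hn hm, F.prod3 h1 hcm hcn ham han h6 hm hn]
  simp only [map_add, map_smul, smul_eq_mul, hac, han, ham, hcn, hcm, hnm, h1, h2, h3, h4, h5,
    h6, ha, hc, hn', hm', mul_zero, mul_one, add_zero, zero_add]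
  vec2

/-- the element `t_n t_m` of `H`, fixing `a` and `c` -/
theorem exists_tt (F : LF q b H O W X) {a c n m : V} (ha : a ∈ O) (hc : c ∈ O) (hac : b a c = 1)
    (hn : IsR q b X a n) (hcn : b c n = 0) (hm : IsR q b X c m) (ham : b a m = 0) (hnm : b n m = 0)
    (hqn : q n = 1) (hqm : q m = 1) :
    ∃ h ∈ H, h a = a ∧ h c = c ∧ ∀ v, h v = v + b n v • n + b m v • m := by
  obtain ⟨han, u, hu, h1⟩ := hn
  obtain ⟨hcm, u', hu', h2⟩ := hm
  have huH := F.X_H a ha u hu
  have huH' := F.X_H c hc u' hu'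
  have hform : ∀ v, (u * u' * u * u' * u * u') v = v + b n v • n + b m v • m := by
    intro v
    show u (u' (u (u' (u (u' v))))) = _
    rw [h1, h2, h1, h2, h1, h2]
    exact F.prod6 hac han ham hcn hcm hnm hqn hqm v
  refine ⟨u * u' * u * u' * u * u', H.mul_mem (H.mul_mem (H.mul_mem (H.mul_mem (H.mul_mem huH huH') huH)
    huH') huH) huH', ?_, ?_, hform⟩
  · rw [hform, F.comm n, F.comm m, han, ham]; vec2
  · rw [hform, F.comm n, F.comm m, hcn, hcm]; vec2

/-- the element `t_n t_(c+xc)` of `H`, fixing `a`, for `n ∈ R_c ∩ a^⊥`, `x ∈ X_a`, `x n = n`, `b c (x c) = 1` -/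
theorem exists_ty (F : LF q b H O W X) {a c n : V} (ha : a ∈ O) (hc : c ∈ O) 
    (hn : IsR q b X c n) (han : b a n = 0) (hqn : q n = 1) {x : V ≃ₗ[ZMod 2] V} (hx : x ∈ X a)
    (hxn : x n = n) (hg : b c (x c) = 1) :
    ∃ h ∈ H, h a = a ∧ b n (x c + c) = 0 ∧
      ∀ v, h v = v + b n v • n + b (x c + c) v • (x c + c) := by
  obtain ⟨hcn, u, hu, h1⟩ := hn
  have hxH := F.X_H a ha x hx
  have huH := F.X_H c hc u hu
  have hxcn : b (x c) n = 0 := by
    rw [← hxn, F.b_H hxH]; exact hcn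
  have hform : ∀ v, (u * (x * u * x⁻¹) * u) v = v + b n v • n + b (x c + c) v • (x c + c) := by
    intro v
    show u (x (u (x⁻¹ (u v)))) = _
    rw [h1, h1 (x⁻¹ (u v)), F.sg_conj hxH, hxn, inv_app, h1, F.conj3 hg hcn hxcn hqn, map_add b,
      LinearMap.add_apply]
    vec2
  have hny : b n (x c + c) = 0 := by
    rw [map_add, F.comm n, F.comm n, hxcn, hcn, add_zero]
  refine ⟨u * (x * u * x⁻¹) * u, H.mul_mem (H.mul_mem huH (H.mul_mem (H.mul_mem hxH huH) (H.inv_mem hxH)))
    huH, ?_, hny, hform⟩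
  rw [hform, F.comm n, han, F.comm _ a, F.s_perp ha hx]
  vec2

end LF

end Cfsg.Agent.Omega.EH3.TwoC
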