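import Cfsg.Agent.Omega.EH3.TwoC.Basic

/-!
# THEOREM 2C: (B5), the tool, (K1), (K2) (helper330)
-/

set_option autoImplicit false

namespace Cfsg.Agent.Omega.EH3.TwoC

open Cfsg.Agent.LargeExtra.SiegFam Cfsg.Agent.LargeExtra.SiegFam.Lin

variable {V : Type*} [AddCommGroup V] [Module (ZMod 2) V]
variable {q : V → ZMod 2} {b : LinearMap.BilinForm (ZMod 2) V}

namespace LF

variable {H : Subgroup (V ≃ₗ[ZMod 2] V)} {O : Set V} {W : V → Submodule (ZMod 2) V}
  {X : V → Subgroup (V ≃ₗ[ZMod 2] V)}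
variable {a c : V} {x y z : V ≃ₗ[ZMod 2] V}

/-- (B5): a triple with `T = 1` whose last two members lie in a subgroup of index at most two -/
theorem exists_half (F : LF q b H O W X) (ha : a ∈ O)
    (hT : ∃ x ∈ X a, ∃ y ∈ X a, ∃ z ∈ X a, T b c x y z = 1) (P : (V ≃ₗ[ZMod 2] V) → Prop)
    (hP : ∀ e ∈ X a, ∀ g ∈ X a, ¬ P e → ¬ P g → P (e * g)) :
    ∃ x ∈ X a, ∃ y ∈ X a, ∃ z ∈ X a, P y ∧ P z ∧ T b c x y z = 1 := by
  obtain ⟨x, hx, y, hy, z, hz, h⟩ := hT
  by_cases hPy : P y
  · by_cases hPz : P z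
    · exact ⟨x, hx, y, hy, z, hz, hPy, hPz, h⟩
    · by_cases hPx : P x
      · refine ⟨z, hz, y, hy, x, hx, hPy, hPx, ?_⟩
        rw [F.T_symm' ha hy]; exact h
      · refine ⟨x, hx, y, hy, x * z, (X a).mul_mem hx hz, hPy, hP x hx z hz hPx hPz, ?_⟩
        rw [F.T_mul ha hx hy hx hz, h, F.T_self'' ha hx hy, zero_add]
  · by_cases hPz : P z
    · by_cases hPx : P x
      · refine ⟨y, hy, x, hx, z, hz, hPx, hPz, ?_⟩
        rw [F.T_symm ha hy hx]; exact h
      · refine ⟨x, hx, x * y, (X a).mul_mem hx hy, z, hz, hP x hx y hy hPx hPy, hPz, ?_⟩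
        rw [F.T_mul' ha hx hx hy hz, F.T_self ha hx, h, zero_add]
    · by_cases hPx : P x
      · refine ⟨y, hy, x, hx, y * z, (X a).mul_mem hy hz, hPx, hP y hy z hz hPy hPz, ?_⟩
        rw [F.T_mul ha hy hx hy hz, F.T_self'' ha hy hx, zero_add, F.T_symm ha hy hx]; exact h
      · refine ⟨x, hx, x * y, (X a).mul_mem hx hy, x * z, (X a).mul_mem hx hz, hP x hx y hy hPx hPy,
          hP x hx z hz hPx hPz, ?_⟩
        rw [F.T_mul' ha hx hx hy ((X a).mul_mem hx hz), F.T_self ha hx, zero_add,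
          F.T_mul ha hx hy hx hz, F.T_self'' ha hx hy, h, zero_add]

/-- (B5), second half -/
theorem N_of_half (F : LF q b H O W X) (ha : a ∈ O) (hc : b a c = 1) (hy : y ∈ X a)
    (P : (V ≃ₗ[ZMod 2] V) → Prop)
    (hP : ∀ e ∈ X a, ∀ g ∈ X a, ¬ P e → ¬ P g → P (e * g))
    (h : ∀ f ∈ X a, P f → ∀ z ∈ X a, T b c y f z = 0) : IsN b X a (y c + c) := by
  apply F.N_of_T ha hc hy
  intro e he g hg
  by_cases hPe : P e
  · exact h e he hPe g hg
  · by_cases hPg : P g
    · rw [F.T_symm'' ha hy he hg]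
      exact h g hg hPg e he
    · have h1 := h (e * g) ((X a).mul_mem he hg) (hP e he g hg hPe hPg) e he
      rw [F.T_mul' ha hy he hg he, F.T_self' ha hy he, zero_add, F.T_symm'' ha hy hg he] at h1
      exact h1

/-- a subgroup of index at most two is not contained in `X_S` -/
theorem not_half (F : LF q b H O W X) (ha : a ∈ O)
    (hT : ∃ x ∈ X a, ∃ y ∈ X a, ∃ z ∈ X a, T b c x y z = 1) (P : (V ≃ₗ[ZMod 2] V) → Prop)
    (hP : ∀ e ∈ X a, ∀ g ∈ X a, ¬ P e → ¬ P g → P (e * g))
    (h : ∀ f ∈ X a, P f → IsN b X a (f c + c)) : False := by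
  obtain ⟨x, hx, y, hy, z, hz, hPy, hPz, h1⟩ := F.exists_half ha hT P hP
  have h2 := F.T_of_N ha hz hx (h y hy hPy)
  rw [F.T_symm ha hy hx, h1] at h2
  exact one_ne_zero h2

/-- the stabiliser of a vector of `N` has index at most two -/
theorem fix_half (F : LF q b H O W X) (ha : a ∈ O) {v : V} (hv : IsN b X a v) :
    ∀ e ∈ X a, ∀ g ∈ X a, ¬ e v = v → ¬ g v = v → (e * g) v = v := by
  intro e he g hg h1 h2
  have h3 := (hv.2 e he).resolve_left h1
  have h4 := (hv.2 g hg).resolve_left h2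
  rw [mul_app, h4, map_add, h3, F.X_a a ha e he]
  vec2

/-- the tool: `sg v (f c + c) ∈ H` -/
theorem tool (F : LF q b H O W X) (ha : a ∈ O) (hc : c ∈ O) {v : V} (hv : IsR q b X c v)
    (hav : b a v = 0) (hq : q v = 0) {f : V ≃ₗ[ZMod 2] V} (hf : f ∈ X a) (hfv : f v = v) :
    b v (f c + c) = 0 ∧ ∃ h ∈ H, h a = a ∧ ∀ t, h t = sg q b v (f c + c) t := by
  obtain ⟨h1, u, hu, h2⟩ := hv
  have hfH := F.X_H a ha f hf
  have huH := F.X_H c hc u hu
  have hvc : b v c = 0 := by rw [F.comm]; exact h1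
  have hvfc : b v (f c) = 0 := by
    rw [← hfv, F.b_H hfH]; exact hvc
  have hy : b v (f c + c) = 0 := by rw [map_add, hvfc, hvc, add_zero]
  have hform : ∀ t, (f * u * f⁻¹ * u) t = sg q b v (f c + c) t := by
    intro t
    show f (u (f⁻¹ (u t))) = _
    rw [h2 (f⁻¹ (u t)), F.sg_conj hfH, hfv, inv_app, h2 t,
      sg_swap (a := f c) (r := v) (by rw [F.q_H f hfH]; exact F.q_a hc) hq,
      sg_swap (a := c) (r := v) (F.q_a hc) hq, F.sg_add hvfc hvc]
  refine ⟨hy, f * u * f⁻¹ * u, H.mul_mem (H.mul_mem (H.mul_mem hfH huH) (H.inv_mem hfH)) huH, ?_, hform⟩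
  rw [hform, sg]
  have h3 : b (f c + c) a = 0 := by rw [F.comm]; exact F.s_perp ha hf c
  have h4 : b v a = 0 := by rw [F.comm]; exact hav
  rw [h3, h4]
  vec2

/-- (K1) -/
theorem K1 (F : LF q b H O W X) (hT : TNe b O X) (ha : a ∈ O) (hc : c ∈ O) (hac : b a c = 1)
    {v : V} (hv : IsR q b X c v) (hav : b a v = 0) (h0 : v ≠ 0) : v ∉ W a := by
  intro hvW
  have hq := F.q_W a ha v hvW
  have hcv : b c v = 0 := hv.1
  have hva : v ≠ a := by
    rintro rfl
    rw [F.comm, hac] at hcv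
    exact one_ne_zero hcv
  have hNv := F.N_W ha hvW
  refine F.not_half ha (hT a ha c hac) (fun f => f v = v) (F.fix_half ha hNv) ?_
  intro f hf hfv
  obtain ⟨hy, h, hhH, hha, hh⟩ := F.tool ha hc hv hav hq hf hfv
  by_cases hn : ∃ n, IsN b X a n ∧ b v n = 1
  · obtain ⟨n, hn, hvn⟩ := hn
    have h1 := F.N_map ha hhH hn
    rw [hha, hh, sg, hvn] at h1
    have h2 : f c + c = (n + b (f c + c) n • v + (1 : ZMod 2) • (f c + c) + (q (f c + c) * 1) • v) + n +
        (b (f c + c) n + q (f c + c)) • v := by vec2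
    rw [h2]
    refine N_add (N_add h1 hn) (F.N_W ha ((W a).smul_mem _ hvW))
  · push Not at hn
    have hn' : ∀ n, IsN b X a n → b v n = 0 := by
      intro n h1
      rcases zm (b v n) with h2 | h2
      · exact h2
      · exact absurd h2 (hn n h1)
    obtain ⟨-, u, hu, h2⟩ := hv
    have huH := F.X_H c hc u hu
    have hca : b c a = 1 := by rw [F.comm]; exact hac
    have hua : u a = a + v := by
      rw [h2, sg, hca, F.comm v a, hav, hq]; vec2
    have huu : ∀ t, u (u t) = t := F.X_sq c hc u hu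
    have huv : u v = v := by
      rw [h2, sg, F.self, hcv]; vec2
    have hav' : a + v ∈ O := by rw [← hua]; exact F.stable u huH a ha
    -- `N_{a+v} ≤ N_a`
    have hN1 : ∀ t, IsN b X (a + v) t → IsN b X a t := by
      intro t ht
      have h3 := F.N_map hav' huH ht
      have h4 : u (a + v) = a := by rw [← hua, huu]
      rw [h4] at h3
      have h5 := hn' _ h3
      have h6 : b v t = 0 := by
        rw [← huv, ← F.b_H huH, huv, huv]; exact h5
      have h7 : u t = t + b c t • v := by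
        rw [h2, sg, h6, hq]; vec2
      rw [h7] at h3
      exact N_of_add h3 (F.N_W ha ((W a).smul_mem _ hvW))
    obtain ⟨f1, hf1, hf1v⟩ := F.exists_move ha hvW h0 hva
    have hf1H := F.X_H a ha f1 hf1
    have hf1' : f1 (a + v) = v := by
      rw [map_add, F.X_a a ha f1 hf1, hf1v]; vec2
    have hvO : v ∈ O := by rw [← hf1']; exact F.stable f1 hf1H _ hav'
    have hN2 : ∀ t, IsN b X v t → IsN b X a t := by
      intro t ht
      have h3 := F.N_map hvO hf1H ht
      rw [hf1v, add_comm] at h3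
      have h4 := F.N_map ha hf1H (hN1 _ h3)
      rw [F.X_a a ha f1 hf1, F.X_sq a ha f1 hf1] at h4
      exact h4
    exact hN2 _ (F.N_of_sg hvO hy hhH hh)

/-- (K2) -/
theorem K2 (F : LF q b H O W X) (hT : TNe b O X) (ha : a ∈ O) (hc : c ∈ O) (hac : b a c = 1)
    {v : V} (hv : IsR q b X c v) (hav : b a v = 0) (h0 : v ≠ 0) (hq : q v = 0) :
    ¬ IsN b X a v ∧ (∀ f ∈ X a, f v = v → f ≠ 1 → f c + c + v ∈ W a) ∧
    ∀ r, IsR q b X a r → r ≠ 0 → r ≠ a → b v r = 1 := by
  have hvW := F.K1 hT ha hc hac hv hav h0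
  have hA : ∃ w ∈ W a, b v w = 1 := by
    by_contra hcon
    push Not at hcon
    have hperp : ∀ w ∈ W a, b v w = 0 := by
      intro w hw
      rcases zm (b v w) with h2 | h2
      · exact h2
      · exact absurd h2 (hcon w hw)
    have hNv := F.N_of_perp_W ha hperp
    refine F.not_half ha (hT a ha c hac) (fun f => f v = v) (F.fix_half ha hNv) ?_
    intro f hf hfv
    obtain ⟨hy, h, hhH, hha, hh⟩ := F.tool ha hc hv hav hq hf hfv
    apply F.N_of_perp_W ha
    intro w hw
    have h1 := F.W_map h hhH a ha w hw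
    rw [hha, hh, sg, hperp w hw, zero_smul, add_zero, mul_zero, zero_smul, add_zero] at h1
    rcases zm (b (f c + c) w) with h2 | h2
    · exact h2
    · rw [h2, one_smul] at h1
      exfalso
      apply hvW
      have := (W a).add_mem h1 hw
      have e : w + v + w = v := by vec2
      rwa [e] at this
  obtain ⟨w, hw, hvw⟩ := hA
  have hii : ∀ f ∈ X a, f v = v → f ≠ 1 → f c + c + v ∈ W a := by
    intro f hf hfv hf1
    obtain ⟨hy, h, hhH, hha, hh⟩ := F.tool ha hc hv hav hq hf hfv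
    have h1 := F.W_map h hhH a ha w hw
    rw [hha, hh, sg, hvw] at h1
    have h2 := (W a).add_mem h1 hw
    have e : w + b (f c + c) w • v + (1 : ZMod 2) • (f c + c) + (q (f c + c) * 1) • v + w =
      f c + c + (b (f c + c) w + q (f c + c)) • v := by vec2
    rw [e] at h2
    rcases zm (b (f c + c) w + q (f c + c)) with h3 | h3
    · rw [h3, zero_smul, add_zero] at h2
      exact absurd (F.inj a ha f hf c hac h2) hf1
    · rw [h3, one_smul] at h2
      exact h2
  have hi : ¬ IsN b X a v := by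
    intro hN
    obtain ⟨x, hx, y, hy, z, hz, hyv, hzv, h1⟩ :=
      F.exists_half ha (hT a ha c hac) (fun f => f v = v) (F.fix_half ha hN)
    have hy1 : y ≠ 1 := by
      rintro rfl
      rw [F.T_symm ha hx hy, F.T_one ha hx hz] at h1
      exact zero_ne_one h1
    have hz1 : z ≠ 1 := by
      rintro rfl
      rw [F.T_symm' ha hy, F.T_one ha hy hx] at h1
      exact zero_ne_one h1
    have h2 := hii y hy hyv hy1
    have h3 := hii z hz hzv hz1
    have h4 : (y * z) c + c ∈ W a := by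
      rw [F.s_mul ha hy hz]
      have h5 := F.X_perp a ha z hz _ (F.s_perp ha hy c)
      have e : z (y c + c) + (z c + c) = (z (y c + c) + (y c + c)) + ((y c + c + v) + (z c + c + v)) := by
        vec2
      rw [e]
      exact (W a).add_mem h5 ((W a).add_mem h2 h3)
    have h5 := F.inj a ha _ ((X a).mul_mem hy hz) c hac h4
    have h6 : y = z := by
      have h7 : z * z = 1 := ext_one (F.X_sq a ha z hz)
      calc y = y * (z * z) := by rw [h7, mul_one]
        _ = (y * z) * z := by rw [mul_assoc]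
        _ = z := by rw [h5, one_mul]
    rw [h6, F.T_self' ha hx hz] at h1
    exact zero_ne_one h1
  refine ⟨hi, hii, ?_⟩
  intro r hr hr0 hra
  rcases zm (b v r) with hvr | hvr
  · exfalso
    have hNr := F.N_R ha hr
    obtain ⟨har, u, hu, h2⟩ := hr
    have huv : u v = v := by
      rw [h2, sg, F.comm r v, hvr, hav]; vec2
    have hu1 : u ≠ 1 := by
      rintro rfl
      have h3 : ∀ t, sg q b a r t = sg q b a a t := by
        intro t; rw [← h2, F.sg_a ha, one_app]
      rcases F.sg_inj ha h3 with h4 | h4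
      · exact hra h4
      · apply hr0; rw [h4, add_self]
    have h3 := hii u hu huv hu1
    apply hi
    have e : v = (u c + c + v) + (r + (b r c + q r) • a) := by
      rw [h2, sg, hac]; vec2
    rw [e]
    exact N_add (F.N_W ha h3) (N_add hNr (F.N_W ha ((W a).smul_mem _ (F.self_W a ha))))
  · exact hvr

end LF

end Cfsg.Agent.Omega.EH3.TwoC
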