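import Cfsg.Agent.Omega.EH3.TwoC.Four

/-!
# THEOREM 2C: case (N2) (helper330)

`R'_a = {0, n}`, `R'_c = {0, m}` nonsingular.  (A) `b n m = 0` is impossible; (C) `b n m = 1` for all pairs
gives a common fixed vector `j = n + w` of `X a` and `X c`.
-/

set_option autoImplicit false

namespace Cfsg.Agent.Omega.EH3.TwoC

open Cfsg.Agent.LargeExtra.SiegFam Cfsg.Agent.LargeExtra.SiegFam.Lin

variable {V : Type*} [AddCommGroup V] [Module (ZMod 2) V]
variable {q : V → ZMod 2} {b : LinearMap.BilinForm (ZMod 2) V}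

namespace LF

variable {H : Subgroup (V ≃ₗ[ZMod 2] V)} {O : Set V} {W : V → Submodule (ZMod 2) V}
  {X : V → Subgroup (V ≃ₗ[ZMod 2] V)}
variable {a c : V} {x y z : V ≃ₗ[ZMod 2] V}

/-- `T(x,y,z)` is the sum of `g` over the seven products -/
theorem T_sum (F : LF q b H O W X) (ha : a ∈ O) (hx : x ∈ X a) (hy : y ∈ X a) (hz : z ∈ X a) :
    T b c x y z = b c ((x * y * z) c) + b c ((x * y) c) + b c ((x * z) c) + b c ((y * z) c) +
      b c (x c) + b c (y c) + b c (z c) := by
  have h1 := F.g_mul (c := c) ha ((X a).mul_mem hx hy) hz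
  have h2 := F.g_mul (c := c) ha hx hz
  have h3 := F.g_mul (c := c) ha hy hz
  rw [F.s_mul ha hx hy, map_add b, LinearMap.add_apply] at h1
  rw [T, map_add b, LinearMap.add_apply]
  grind

theorem exists_n (F : LF q b H O W X) (ha : a ∈ O) (hac : b a c = 1)
    (hR : ∃ r, IsR q b X a r ∧ r ≠ 0 ∧ r ≠ a) : ∃ n, IsR q b X a n ∧ b c n = 0 ∧ n ≠ 0 := by
  obtain ⟨r, hr, h0, h1⟩ := hR
  have hca : b c a = 1 := by rw [F.comm]; exact hac
  refine ⟨r + b c r • a, ?_, ?_, ?_⟩
  · rcases zm (b c r) with h2 | h2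
    · rw [h2, zero_smul, add_zero]; exact hr
    · rw [h2, one_smul]; exact F.R_add hr (F.R_self ha)
  · rw [map_add, map_smul, hca, smul_eq_mul, mul_one, zadd]
  · rcases zm (b c r) with h2 | h2
    · rw [h2, zero_smul, add_zero]; exact h0
    · rw [h2, one_smul]; exact fun h => h1 (eq_of_add h)

theorem not_mem_W (F : LF q b H O W X) (ha : a ∈ O) {v : V} (hv : q v = 1) : v ∉ W a := by
  intro h
  rw [F.q_W a ha v h] at hv
  exact zero_ne_one hv

/-- from the invariance of `W a` under `t_n t_y`, `q n = q y = 1`, `n ∈ N`: `y ∈ N` -/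
theorem N_of_tt (F : LF q b H O W X) (ha : a ∈ O) {n y : V} (hn : IsN b X a n) (_hqn : q n = 1)
    (hqy : q y = 1) (hW : ∀ w ∈ W a, b n w • n + b y w • y ∈ W a) : IsN b X a y := by
  by_cases h1 : ∀ w ∈ W a, b y w = 0
  · exact F.N_of_perp_W ha h1
  · push Not at h1
    obtain ⟨w, hw, h2⟩ := h1
    have h3 := zm_ne h2
    have h4 := hW w hw
    rw [h3, one_smul] at h4
    rcases zm (b n w) with h5 | h5
    · rw [h5, zero_smul, zero_add] at h4
      exact absurd h4 (F.not_mem_W ha hqy)
    · rw [h5, one_smul] at h4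
      have e : y = (n + y) + n := by vec2
      rw [e]
      exact N_add (F.N_W ha h4) hn

/-- case (A) -/
theorem caseA (F : LF q b H O W X) (hT : TNe b O X) (hN : NSing q b O X) (h2 : Two q b O X)
    (ha : a ∈ O) (hc : c ∈ O) (hac : b a c = 1) {n m : V}
    (hn : IsR q b X a n) (hcn : b c n = 0) (hn0 : n ≠ 0) (hm : IsR q b X c m)
    (ham : b a m = 0) (hm0 : m ≠ 0) (hnm : b n m = 0) : False := by
  have hca : b c a = 1 := by rw [F.comm]; exact hac
  have hqn := hN c hc a ha hca n hn hcn hn0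
  have hqm := hN a ha c hc hac m hm ham hm0
  have hNn := F.N_R ha hn
  have hna : n ≠ a := by
    rintro rfl
    rw [hcn] at hca
    exact zero_ne_one hca
  have hNm : IsN b X a m := by
    by_cases hne : n = m
    · rw [← hne]; exact hNn
    · obtain ⟨h, hhH, hha, -, hh⟩ := F.exists_tt ha hc hac hn hcn hm ham hnm hqn hqm
      refine F.N_of_tt ha hNn hqn hqm ?_
      intro w hw
      have h3 := F.W_map h hhH a ha w hw
      rw [hha, hh] at h3
      have h4 := (W a).add_mem h3 hw
      have e : w + b n w • n + b m w • m + w = b n w • n + b m w • m := by vec2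
      rwa [e] at h4
  obtain ⟨han, u, hu, h1⟩ := hn
  have hum : u m = m := by
    rw [h1, sg, ham, hnm]; vec2
  have huc : u c = c + n + a := by
    rw [h1, sg, F.comm n c, hcn, hac, hqn]; vec2
  have hgu : b c (u c) = 1 := by
    rw [huc, map_add, map_add, F.self, hcn, hca]; rfl
  have hNu : IsN b X a (u c + c) := by
    have e : u c + c = n + a := by rw [huc]; vec2
    rw [e]
    exact N_add hNn (F.N_W ha (F.self_W a ha))
  -- `g = δ_u` on `C_X(m)`
  have hg : ∀ p ∈ X a, p m = m → b c (p c) = 1 → p = u := by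
    intro p hp hpm hgp
    have hqy : q (p c + c) = 1 := by
      rw [F.q_add, F.q_X ha hp, F.comm (p c) c, hgp, F.q_a hc]; rfl
    obtain ⟨h, hhH, hha, -, hh⟩ := F.exists_ty ha hc hm ham hqm hp hpm hgp
    have hNy : IsN b X a (p c + c) := by
      refine F.N_of_tt ha hNm hqm hqy ?_
      intro w hw
      have h3 := F.W_map h hhH a ha w hw
      rw [hha, hh] at h3
      have h4 := (W a).add_mem h3 hw
      have e : w + b m w • m + b (p c + c) w • (p c + c) + w =
        b m w • m + b (p c + c) w • (p c + c) := by vec2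
      rwa [e] at h4
    have hsg := F.sg_of_N ha hac hp hNy
    have hRy : IsR q b X a (p c + c) := ⟨F.s_perp ha hp c, p, hp, hsg⟩
    have hy0 : p c + c ≠ 0 := by
      intro h0; rw [h0, F.q_zero] at hqy; exact zero_ne_one hqy
    have hya : p c + c ≠ a := by
      intro h0; rw [h0, F.q_a ha] at hqy; exact zero_ne_one hqy
    apply LinearEquiv.ext
    intro t
    rw [hsg, h1]
    rcases h2 a ha n _ ⟨han, u, hu, h1⟩ hRy hn0 hna hy0 hya with h3 | h3
    · rw [h3]
    · rw [h3, ← F.sg_add han (F.self a), F.sg_a ha]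
  obtain ⟨x, hx, y, hy, z, hz, hym, hzm, hTx⟩ :=
    F.exists_half ha (hT a ha c hac) (fun f => f m = m) (F.fix_half ha hNm)
  -- `T(x, e, z) = 0` for `e = u, 1`
  have hzu : T b c x u z = 0 := by
    rw [F.T_symm ha hx hu]; exact F.T_of_N ha hz hx hNu
  have hyu : T b c x y u = 0 := by
    rw [F.T_symm' ha hy]; exact F.T_of_N ha hx hy hNu
  have hz1 : T b c x 1 z = 0 := by
    rw [F.T_symm ha hx (X a).one_mem]; exact F.T_one ha hx hz
  have hy1 : T b c x y 1 = 0 := by
    rw [F.T_symm' ha hy]; exact F.T_one ha hy hx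
  have hyz : T b c x (y * z) z = 1 := by
    rw [F.T_mul' ha hx hy hz hz, F.T_self' ha hx hz, hTx, add_zero]
  have huu : u * u = 1 := ext_one (F.X_sq a ha u hu)
  have key : ∀ e ∈ X a, e m = m → (e ≠ u → b c (e c) = 0) := by
    intro e he hem hne
    rcases zm (b c (e c)) with h3 | h3
    · exact h3
    · exact absurd (hg e he hem h3) hne
  have hcanc : ∀ e : V ≃ₗ[ZMod 2] V, u * e = u → e = 1 := fun e h => by
    calc e = (u * u) * e := by rw [huu, one_mul]
      _ = u * (u * e) := by rw [mul_assoc]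
      _ = 1 := by rw [h, huu]
  have ny1 : y ≠ 1 := by rintro rfl; rw [hz1] at hTx; exact zero_ne_one hTx
  have nz1 : z ≠ 1 := by rintro rfl; rw [hy1] at hTx; exact zero_ne_one hTx
  have nyu : y ≠ u := by rintro rfl; rw [hzu] at hTx; exact zero_ne_one hTx
  have nzu : z ≠ u := by rintro rfl; rw [hyu] at hTx; exact zero_ne_one hTx
  have nyzu : y * z ≠ u := by intro h; rw [h, hzu] at hyz; exact zero_ne_one hyz
  have nyz1 : y * z ≠ 1 := by intro h; rw [h, hz1] at hyz; exact zero_ne_one hyz
  have h3 := F.T_sum (c := c) ha hu hy hz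
  rw [F.T_of_N ha hz hy hNu, hgu,
    key _ ((X a).mul_mem ((X a).mul_mem hu hy) hz) (by rw [mul_app, mul_app, hzm, hym, hum])
      (fun h => nyz1 (hcanc _ (by rw [← mul_assoc]; exact h))),
    key _ ((X a).mul_mem hu hy) (by rw [mul_app, hym, hum]) (fun h => ny1 (hcanc _ h)),
    key _ ((X a).mul_mem hu hz) (by rw [mul_app, hzm, hum]) (fun h => nz1 (hcanc _ h)),
    key _ ((X a).mul_mem hy hz) (by rw [mul_app, hzm, hym]) nyzu,
    key _ hy hym nyu, key _ hz hzm nzu] at h3
  revert h3
  decide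

/-- case (C): a common fixed vector -/
theorem caseC (F : LF q b H O W X) (hT : TNe b O X) (hN : NSing q b O X) (h2 : Two q b O X)
    (hR : ∀ a ∈ O, ∃ r, IsR q b X a r ∧ r ≠ 0 ∧ r ≠ a) :
    ∀ a ∈ O, ∀ c ∈ O, b a c = 1 → ∃ j, j ≠ 0 ∧ IsC X a j ∧ IsC X c j := by
  intro a ha c hc hac
  have hca : b c a = 1 := by rw [F.comm]; exact hac
  obtain ⟨n, hn, hcn, hn0⟩ := F.exists_n ha hac (hR a ha)
  obtain ⟨m, hm, ham, hm0⟩ := F.exists_n hc hca (hR c hc)
  have hqn := hN c hc a ha hca n hn hcn hn0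
  have hqm := hN a ha c hc hac m hm ham hm0
  have hNn := F.N_R ha hn
  have hnm : b n m = 1 := by
    rcases zm (b n m) with h3 | h3
    · exact (F.caseA hT hN h2 ha hc hac hn hcn hn0 hm ham hm0 h3).elim
    · exact h3
  have hmn : b m n = 1 := by rw [F.comm]; exact hnm
  have hcm : b c m = 0 := hm.1
  have hmc : b m c = 0 := by rw [F.comm]; exact hcm
  have hma : b m a = 0 := by rw [F.comm]; exact ham
  have hnc : b n c = 0 := by rw [F.comm]; exact hcn
  obtain ⟨han, u, hu, h1⟩ := id hn
  have hna : b n a = 0 := by rw [F.comm]; exact han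
  have huc : u c = c + n + a := by
    rw [h1, sg, hnc, hac, hqn]; vec2
  have hgu : b c (u c) = 1 := by
    rw [huc, map_add, map_add, F.self, hcn, hca]; rfl
  -- `y n = n + k(y) a`, `k(y) = b n (y c + c)`
  have hk : ∀ y ∈ X a, y n = n + b n (y c + c) • a := fun y hy => F.X_val ha hy hac (hNn.2 y hy)
  -- (1)
  have step1 : ∀ y ∈ X a, b m (y c) = 0 → b c (y c) = 0 := by
    intro y hy hτ
    rcases zm (b c (y c)) with h3 | h3
    · exact h3
    · exfalso
      have hyH := F.X_H a ha y hy
      have hyc : y c ∈ O := F.stable y hyH c hc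
      refine F.caseA hT hN h2 hc hyc h3 hm (by rw [F.comm]; exact hτ) hm0 (F.R_map hc hyH hm) ?_ ?_ ?_
      · rw [← F.b_X ha hy, F.comm]; exact hτ
      · intro h0
        apply hm0
        have := F.X_sq a ha y hy m
        rw [h0, map_zero] at this
        exact this.symm
      · exact F.b_delta ha hy ham
  -- (3)
  have step3 : ∀ y ∈ X a, b c (y c) = b m (y c) * (b n (y c + c) + 1) := by
    intro y hy
    rcases zm (b m (y c)) with h3 | h3
    · rw [step1 y hy h3, h3, zero_mul]
    · have h4 : b m ((y * u) c) = 0 := by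
        rw [mul_app, huc, map_add y, map_add y, hk y hy, F.X_a a ha y hy, map_add, map_add, map_add, map_smul,
          h3, hmn, hma, smul_zero]
        rfl
      have h5 := step1 _ ((X a).mul_mem hy hu) h4
      rw [F.g_mul ha hy hu, hgu] at h5
      have h6 : b (y c + c) (u c + c) = b n (y c + c) := by
        have e : u c + c = n + a := by rw [huc]; vec2
        rw [e, map_add, F.comm _ n, F.comm _ a, F.s_perp ha hy, add_zero]
      rw [h6] at h5
      rw [h3, one_mul]
      grind
  -- (4)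
  obtain ⟨x, hx, hw⟩ := F.surj a ha c hac m ham
  obtain ⟨w, hwdef⟩ : ∃ w, w = x c + c + m := ⟨_, rfl⟩
  rw [← hwdef] at hw
  have hxc : x c = c + m + w := by rw [hwdef]; vec2
  have hsx : x c + c = m + w := by rw [hwdef]; vec2
  have hqw := F.q_W a ha w hw
  have haw := F.a_W ha hw
  have e1 : b c w + b m w = 1 := by
    have h3 := F.q_X ha hx c
    rw [hxc, F.q_add, F.q_add, hqm, hqw, hcm, F.q_a hc, map_add b, LinearMap.add_apply] at h3
    grind
  have e2 : b c w = b m w * b n w := by
    have h3 := step3 x hx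
    rw [hsx, hxc] at h3
    simp only [map_add, F.self, hcm, hmc, hnm] at h3
    grind
  have e3 : b m w = 1 ∧ b c w = 0 ∧ b n w = 0 := by
    revert e1 e2
    generalize b c w = α, b m w = β, b n w = γ
    revert α β γ
    decide
  obtain ⟨hmw, hcw, hnw⟩ := e3
  have hwv : ∀ y ∈ X a, y w = w + b w (y c + c) • a := fun y hy =>
    F.X_val ha hy hac (F.X_W a ha y hy w hw)
  -- (5)
  have step5 : ∀ y ∈ X a, b w (y c + c) = b n (y c + c) := by
    intro y hy
    have h3 := F.g_mul (c := c) ha hx hy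
    have h4 := step3 _ ((X a).mul_mem hx hy)
    have h5 := step3 y hy
    have hcx : b c (x c) = 0 := by
      rw [hxc, map_add, map_add, F.self, hcm, hcw]; rfl
    have h6 : b (x c + c) (y c + c) = b m (y c) + b w (y c + c) := by
      rw [hsx, map_add b, LinearMap.add_apply, map_add (b m), hmc, add_zero]
    have h7 : b m ((x * y) c) = b m (y c) + 1 := by
      rw [mul_app, F.X_comm a ha x hx y hy, hxc, map_add, map_add, map_add, map_add, hwv y hy,
        F.b_delta ha hy ham, map_add, map_smul, hmw, hma, smul_zero]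
      grind
    have h8 : b n ((x * y) c + c) = 1 + b n (y c + c) := by
      rw [F.s_mul ha hx hy, map_add (b n) (y (x c + c)), ← F.b_X ha hy, hk y hy, hsx]
      simp only [map_add, LinearMap.add_apply, map_smul, LinearMap.smul_apply, hnm, hnw, ham, haw,
        smul_eq_mul, mul_zero, add_zero]
    rw [hcx, h6] at h3
    rw [h7, h8] at h4
    grind
  have hjC : IsC X a (n + w) := by
    intro y hy
    rw [map_add, hk y hy, hwv y hy, step5 y hy]
    vec2
  obtain ⟨-, u', hu', h1'⟩ := id hm
  have huH := F.X_H a ha u hu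
  have huH' := F.X_H c hc u' hu'
  have hjc : b c (n + w) = 0 := by rw [map_add, hcn, hcw, add_zero]
  have hjm : b m (n + w) = 0 := by rw [map_add, hmn, hmw]; rfl
  have hu'j : u' (n + w) = n + w := by
    rw [h1', sg, hjc, hjm]; vec2
  have huj : u (n + w) = n + w := hjC u hu
  have hu'a : u' a = a + m + c := by
    rw [h1', sg, hma, hca, hqm]; vec2
  have hu'n : u' n = n + c := by
    rw [h1', sg, hmn, hcn]; vec2
  have hu'm : u' m = m := by
    rw [h1', sg, F.self, hcm]; vec2
  have hu'c : u' c = c := F.X_a c hc u' hu'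
  have hua : u a = a := F.X_a a ha u hu
  have hun : u n = n := by
    rw [h1, sg, F.self, han]; vec2
  have hum : u m = m + a := by
    rw [h1, sg, hnm, ham]; vec2
  have hmove : (u * u' * u * u') a = c := by
    show u (u' (u (u' a))) = c
    simp only [hu'a, map_add, hum, huc, hua, hu'n, hu'm, hu'c, hun]
    vec2
  have hfix : (u * u' * u * u') (n + w) = n + w := by
    show u (u' (u (u' (n + w)))) = n + w
    rw [hu'j, huj, hu'j, huj]
  refine ⟨n + w, ?_, hjC, ?_⟩
  · intro h0
    have h3 := eq_of_add h0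
    rw [h3, hqw] at hqn
    exact zero_ne_one hqn
  · have h3 := F.C_map ha (H.mul_mem (H.mul_mem (H.mul_mem huH huH') huH) huH') hjC
    rw [hmove, hfix] at h3
    exact h3

end LF

end Cfsg.Agent.Omega.EH3.TwoC
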